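import Cfsg.Agent.MK.Defs
import Cfsg.Agent.H614.IndexTwo
import Cfsg.Agent.H117.O1.AltDeg
import Cfsg.Agent.J3Type.CharTools
import Cfsg.Agent.CharactersDeep.NormalInd

/-!
# MK, alternating groups: characters of odd degree and subgroups of index two (helper42)

* `par` : the parity of an integral value at a `2`-element;
* `idx2 : 2 * ko N = ko G + 4 * nv N`;
* `van_iff` : `χ 1 ≡ 2 mod 4` is read off from the value at a `2`-element.
-/

set_option autoImplicit false
set_option maxHeartbeats 400000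

namespace Cfsg.Agent.MK.A

open Cfsg Finset Cfsg.Agent.Characters.Core Cfsg.Agent.J3Type.CharTools
open Cfsg.Agent.Blocks.Basic (charDegree_of_eq)

/-- the number of irreducible characters of odd degree -/
noncomputable abbrev ko (G : Type) [Group G] : ℕ := Nat.card {χ : G → ℂ // OI G χ}

variable {G : Type} [Group G]

/-- irreducible, zero outside of `N`, of degree `2 mod 4` -/
def Vn (N : Subgroup G) (χ : G → ℂ) : Prop := IsIrrCharacter G χ ∧ (∀ g, g ∉ N → χ g = 0) ∧ charDegree χ % 4 = 2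

/-- the number of these characters -/
noncomputable def nv (N : Subgroup G) : ℕ := Nat.card {χ : G → ℂ // Vn N χ}

theorem par_aux [Finite G] {χ : G → ℂ} (hχ : IsCharacter G χ) (z : ℤ) (j : ℕ) : ∀ g : G, g ^ 2 ^ j = 1 →
    (∃ β : ℂ, IsIntegral ℤ β ∧ χ g = z + 2 * β) → ∃ β : ℂ, IsIntegral ℤ β ∧ χ 1 = z + 2 * β := by
  induction j with
  | zero =>
    intro g hg h
    rw [pow_zero, pow_one] at hg
    rwa [hg] at h
  | succ j ih =>
    rintro g hg ⟨β, hβ, h⟩
    refine ih (g ^ 2) (by rw [← pow_mul, ← pow_succ', hg]) ?_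
    obtain ⟨γ, hγ, e⟩ := pow_congr hχ g Nat.prime_two
    obtain ⟨c, hc⟩ := Int.even_mul_pred_self z
    have hc' : (z : ℂ) * (z - 1) = c + c := by exact_mod_cast hc
    refine ⟨c + 2 * (z * β + β * β) - γ, ?_, ?_⟩
    · exact ((isIntegral_int c).add ((isIntegral_nat 2).mul (((isIntegral_int z).mul hβ).add (hβ.mul hβ)))).sub hγ
    · rw [h] at e
      push_cast at e
      linear_combination hc' - e

/-- **the parity of an integral value at a `2`-element** -/
theorem par [Finite G] {χ : G → ℂ} (hχ : IsCharacter G χ) {g : G} {j : ℕ} (hg : g ^ 2 ^ j = 1) {z : ℤ}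
    (h : χ g = z) : Odd (charDegree χ) ↔ Odd z := by
  obtain ⟨β, hβ, e⟩ := par_aux hχ z j g hg ⟨0, isIntegral_zero, by rw [h, mul_zero, add_zero]⟩
  obtain ⟨n, hn⟩ := isCharacter_apply_one hχ
  have h1 := dvd_of_integral (p := 2) (m := n - z) two_ne_zero hβ (by
    push_cast
    linear_combination e - hn)
  rw [charDegree_of_eq hn, Nat.odd_iff, Int.odd_iff]
  omega

theorem deg_eq {χ : G → ℂ} (hχ : IsIrrCharacter G χ) : χ 1 = charDegree χ := by
  obtain ⟨n, -, hn⟩ := isIrr_apply_one hχ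
  rw [charDegree_of_eq hn, hn]

theorem card_sum [Fintype (IrrCharacter G)] (P : (G → ℂ) → Prop) [DecidablePred P] :
    (Nat.card {χ : G → ℂ // IsIrrCharacter G χ ∧ P χ} : ℂ) = ∑ χ : IrrCharacter G, if P χ then 1 else 0 := by
  rw [Finset.sum_boole, ← Fintype.card_subtype, ← Nat.card_eq_fintype_card]
  congr 1
  exact Nat.card_congr ⟨fun χ => ⟨⟨χ.1, χ.2.1⟩, χ.2.2⟩, fun χ => ⟨χ.1.1, χ.1.2, χ.2⟩, fun _ => rfl, fun _ => rfl⟩

/-- a character of odd degree does not vanish outside of `N` -/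
theorem not_van [Finite G] {N : Subgroup G} (hN : N.index = 2) {χ : G → ℂ} (h : OI G χ) :
    ¬ ∀ g, g ∉ N → χ g = 0 := fun hv => by
  have := Fintype.ofFinite G
  have := Fintype.ofFinite N
  have := N.normal_of_index_eq_two hN
  obtain ⟨θ, hθ, e⟩ := H117.O1.exists_half N hN h.1 hv
  rw [deg_eq h.1, deg_eq hθ] at e
  have e1 : charDegree χ = 2 * charDegree θ := by exact_mod_cast e
  have := Nat.odd_iff.1 h.2
  omega

/-- **subgroups of index two** -/
theorem idx2 [Finite G] {N : Subgroup G} (hN : N.index = 2) : 2 * ko N = ko G + 4 * nv N := by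
  classical
  have := Fintype.ofFinite G
  have := Fintype.ofFinite N
  have := N.normal_of_index_eq_two hN
  have := finite_irr (G := G)
  have := finite_irr (G := N)
  have := Fintype.ofFinite (IrrCharacter G)
  have := Fintype.ofFinite (IrrCharacter N)
  obtain ⟨m, hm⟩ : ∃ m : IrrCharacter G → IrrCharacter N → ℂ,
      ∀ χ θ, m χ θ = classInner (fun n : N => (χ : G → ℂ) n) (θ : N → ℂ) := ⟨_, fun _ _ => rfl⟩
  have hres : ∀ χ : IrrCharacter G, IsCharacter N (fun n : N => (χ : G → ℂ) n) := fun χ =>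
    isCharacter_comp N.subtype (isIrr_isCharacter χ.2)
  have h1 : ∀ θ : IrrCharacter N, ∑ χ, m χ θ * (χ : G → ℂ) 1 = 2 * (θ : N → ℂ) 1 := fun θ => by
    have h2 := congrFun (classFunction_eq_sum (CharactersDeep.NormalInd.indFun_isClassFunction N (θ : N → ℂ))) 1
    rw [CharactersDeep.NormalInd.indFun_one, hN, Finset.sum_apply] at h2
    rw [show (2 : ℂ) = ((2 : ℕ) : ℂ) by norm_num, h2]
    refine Finset.sum_congr rfl fun χ _ => ?_
    obtain ⟨e, he⟩ := classInner_isNat (hres χ) (isIrr_isCharacter θ.2)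
    rw [Pi.smul_apply, smul_eq_mul, CharactersDeep.NormalInd.classInner_indFun N _ _ (isIrr_isClassFunction χ.2),
      ← classInner_conj_symm, hm, he, Complex.conj_natCast]
  have h2 : ∀ χ : IrrCharacter G, ∑ θ, m χ θ * (θ : N → ℂ) 1 = (χ : G → ℂ) 1 := fun χ => by
    have h3 := congrFun (classFunction_eq_sum (isCharacter_isClassFunction (hres χ))) 1
    rw [Finset.sum_apply] at h3
    refine Eq.trans (Finset.sum_congr rfl fun θ _ => ?_) h3.symm
    rw [hm, Pi.smul_apply, smul_eq_mul]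
  have h3 : ∀ χ : IrrCharacter G,
      ∑ θ : IrrCharacter N, (if Odd (charDegree (θ : N → ℂ)) then m χ θ * (χ : G → ℂ) 1 / (θ : N → ℂ) 1 else 0) =
      (if Odd (charDegree (χ : G → ℂ)) then 1 else 0) +
        4 * if (∀ g, g ∉ N → (χ : G → ℂ) g = 0) ∧ charDegree (χ : G → ℂ) % 4 = 2 then 1 else 0 := fun χ => by
    have c0 := isIrr_apply_one_ne_zero χ.2
    by_cases hv : ∀ g, g ∉ N → (χ : G → ℂ) g = 0
    · have k1 : ∀ θ, m χ θ ≠ 0 → (χ : G → ℂ) 1 = 2 * (θ : N → ℂ) 1 := fun θ h => by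
        rw [hm] at h
        rcases H614.restrict_two N hN χ.2 θ.2 h with h4 | h4
        · exact (H117.O1.false_of_restrict N hN χ.2 hv θ.2 h4).elim
        · exact h4.1
      have k2 : ∀ θ, m χ θ ≠ 0 → charDegree (χ : G → ℂ) = 2 * charDegree (θ : N → ℂ) := fun θ h => by
        have h4 := k1 θ h
        rw [deg_eq χ.2, deg_eq θ.2] at h4
        exact_mod_cast h4
      rw [if_neg fun h => not_van hN ⟨χ.2, h⟩ hv, zero_add]
      by_cases h4 : charDegree (χ : G → ℂ) % 4 = 2
      · rw [if_pos ⟨hv, h4⟩, mul_one]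
        refine mul_right_cancel₀ c0 ?_
        rw [Finset.sum_mul]
        conv_rhs => rw [← h2, Finset.mul_sum]
        refine Finset.sum_congr rfl fun θ _ => ?_
        by_cases h5 : m χ θ = 0
        · simp [h5]
        · have h6 := k2 θ h5
          have c1 := isIrr_apply_one_ne_zero θ.2
          rw [if_pos (Nat.odd_iff.2 (by omega)), k1 θ h5]
          field_simp
          ring
      · rw [if_neg fun h => h4 h.2, mul_zero]
        refine Finset.sum_eq_zero fun θ _ => ?_
        by_cases h5 : m χ θ = 0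
        · simp [h5]
        · have h6 := k2 θ h5
          exact if_neg fun h => h4 (by have := Nat.odd_iff.1 h; omega)
    · have k1 : ∀ θ, m χ θ ≠ 0 → (χ : G → ℂ) 1 = (θ : N → ℂ) 1 := fun θ h => by
        rw [hm] at h
        rcases H614.restrict_two N hN χ.2 θ.2 h with h4 | h4
        · exact h4 1
        · exact absurd h4.2 hv
      have k2 : ∀ θ, m χ θ ≠ 0 → charDegree (χ : G → ℂ) = charDegree (θ : N → ℂ) := fun θ h => by
        have h4 := k1 θ h
        rw [deg_eq χ.2, deg_eq θ.2] at h4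
        exact_mod_cast h4
      rw [if_neg (fun h : _ ∧ _ => hv h.1), mul_zero, add_zero]
      split_ifs with h4
      · refine mul_right_cancel₀ c0 ?_
        rw [Finset.sum_mul]
        conv_rhs => rw [one_mul, ← h2]
        refine Finset.sum_congr rfl fun θ _ => ?_
        by_cases h5 : m χ θ = 0
        · simp [h5]
        · have c1 := isIrr_apply_one_ne_zero θ.2
          rw [if_pos (k2 θ h5 ▸ h4), k1 θ h5]
          field_simp
      · refine Finset.sum_eq_zero fun θ _ => ?_
        by_cases h5 : m χ θ = 0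
        · simp [h5]
        · exact if_neg fun h => h4 (k2 θ h5 ▸ h)
  have h4 := Finset.sum_congr (s₁ := univ) rfl fun χ _ => h3 χ
  rw [Finset.sum_comm, Finset.sum_add_distrib, ← Finset.mul_sum, ← card_sum fun χ => Odd (charDegree χ),
    ← card_sum fun χ => (∀ g, g ∉ N → χ g = 0) ∧ charDegree χ % 4 = 2] at h4
  have h5 : ((2 * ko N : ℕ) : ℂ) = ∑ θ : IrrCharacter N, ∑ χ : IrrCharacter G,
      (if Odd (charDegree (θ : N → ℂ)) then m χ θ * (χ : G → ℂ) 1 / (θ : N → ℂ) 1 else 0) := by
    rw [Nat.cast_mul, show ko N = Nat.card {θ : N → ℂ // IsIrrCharacter N θ ∧ Odd (charDegree θ)} from rfl, card_sum,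
      Finset.mul_sum]
    refine Finset.sum_congr rfl fun θ _ => ?_
    split_ifs with h
    · have c1 := isIrr_apply_one_ne_zero θ.2
      rw [← Finset.sum_div, h1]
      field_simp
      norm_num
    · simp
  rw [← h5] at h4
  exact_mod_cast h4

/-- the value of a constituent at an element which is centralised by an element outside of `N` -/
theorem half [Finite G] {N : Subgroup G} (hN : N.index = 2) {χ : G → ℂ} (hχ : IsIrrCharacter G χ)
    (hv : ∀ g, g ∉ N → χ g = 0) : ∃ θ : N → ℂ, IsIrrCharacter N θ ∧ χ 1 = 2 * θ 1 ∧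
      ∀ (y : N) (s : G), s ∉ N → s * y = y * s → χ y = 2 * θ y := by
  classical
  have := Fintype.ofFinite G
  have := Fintype.ofFinite N
  have := N.normal_of_index_eq_two hN
  obtain ⟨θ, hθ, hne⟩ := H117.O1.exists_constituent N hχ
  have h1 : χ 1 = 2 * θ 1 := by
    rcases H614.restrict_two N hN hχ hθ hne with h4 | h4
    · exact (H117.O1.false_of_restrict N hN hχ hv hθ h4).elim
    · exact h4.1
  refine ⟨θ, hθ, h1, fun y s hs hc => ?_⟩
  obtain ⟨S, -, hS, he⟩ := Blocks.PrimeNormal.restrict_eq N hχ hθ hne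
  have key : ∀ x : N, s * x = x * s → χ x = classInner (fun n : N => χ n) θ * (S.card * θ x) := fun x hx => by
    have h2 := congrFun he x
    rw [Pi.smul_apply, Finset.sum_apply, smul_eq_mul, Finset.sum_congr rfl (g := fun _ => θ x), Finset.sum_const,
      nsmul_eq_mul] at h2
    · exact h2
    · intro η hη
      obtain ⟨g, hg⟩ := hS η hη
      rw [hg, Function.comp]
      by_cases hgN : g ∈ N
      · exact isIrr_isClassFunction hθ x ⟨g, hgN⟩
      · have h3 : g * s⁻¹ ∈ N := (Subgroup.mul_mem_iff_of_index_two hN).2 ⟨fun h => absurd h hgN,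
          fun h => absurd (inv_mem_iff.1 h) hs⟩
        rw [← isIrr_isClassFunction hθ x ⟨_, h3⟩]
        congr 1
        apply Subtype.ext
        have h4 : (x : G) = s⁻¹ * x * s := by rw [mul_assoc, ← hx]; group
        show g * x * g⁻¹ = g * s⁻¹ * x * (g * s⁻¹)⁻¹
        conv_lhs => rw [h4]
        group
  have h2 := key 1 (by simp)
  rw [Subgroup.coe_one, h1, ← mul_assoc] at h2
  rw [key y hc, ← mul_assoc, ← mul_right_cancel₀ (isIrr_apply_one_ne_zero hθ) h2]

/-- the degree modulo four -/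
theorem van_iff [Finite G] {N : Subgroup G} (hN : N.index = 2) {χ : G → ℂ} (hχ : IsIrrCharacter G χ)
    (hv : ∀ g, g ∉ N → χ g = 0) {y s : G} (hy : y ∈ N) (hs : s ∉ N) (hc : s * y = y * s) {j : ℕ} (hj : y ^ 2 ^ j = 1)
    {z : ℤ} (hz : χ y = (2 * z : ℤ)) : charDegree χ % 4 = 2 ↔ Odd z := by
  obtain ⟨θ, hθ, h1, h2⟩ := half hN hχ hv
  have h3 := h2 ⟨y, hy⟩ s hs hc
  rw [deg_eq hχ, deg_eq hθ] at h1
  have e1 : charDegree χ = 2 * charDegree θ := by exact_mod_cast h1
  rw [← par (isIrr_isCharacter hθ) (g := ⟨y, hy⟩) (j := j) (Subtype.ext hj) (z := z) (by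
    push_cast at hz
    linear_combination (hz - h3) / 2), Nat.odd_iff]
  omega

/-- no such condition is needed for the value zero -/
theorem van_zero [Finite G] {N : Subgroup G} (hN : N.index = 2) {χ : G → ℂ} (h : Vn N χ) {y s : G} (hy : y ∈ N)
    (hs : s ∉ N) (hc : s * y = y * s) {j : ℕ} (hj : y ^ 2 ^ j = 1) : χ y ≠ 0 := fun h0 => by
  have h1 := (van_iff hN h.1 h.2.1 hy hs hc hj (z := 0) (by rw [h0]; simp)).1 h.2.2
  exact absurd h1 (by decide)

end Cfsg.Agent.MK.A
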