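import Cfsg.Agent.MK.A.Sym

/-!
# MK, alternating groups: self-conjugate partitions of degree `2 mod 4` (helper42)

* `nv_zero` : there are none for `n = 2 ^ k + l`, `2 ≤ l < 2 ^ k`;
* `nv_pow` : there are `2 ^ k` of them for `n = 2 ^ (k + 2) + ε`, `ε ≤ 1`;
* `ko_alt_gen`, `ko_alt_pow` : the number of characters of odd degree of the alternating groups.
-/

set_option autoImplicit false
set_option maxHeartbeats 400000

namespace Cfsg.Agent.MK.A

open Finset hiding diag mem_diag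
open Cfsg Equiv Cfsg.Agent.Characters.Core Cfsg.Agent.H614 Cfsg.Agent.H615.AltRefl Cfsg.Agent.H29.AltSelf
open Cfsg.Agent.ODD.Alt (mem_diag hook_cases)

variable {m : ℕ} {β γ : Fin m → ℕ} {r n : ℕ} {j k : Fin m}

theorem mirror (h : IsRefl β β) (hr : r % 2 = 0) (hj : Hk β r j) : ∃ k, k ≠ j ∧ Hk β r k := by
  have h1 := h.lt j
  have h2 := hj.1
  obtain ⟨k, hk⟩ : m + m - 1 - (β j - r) ∈ Set.range β := by
    by_contra h4
    exact hj.2 ((h.iff _ (by omega)).2 h4)
  refine ⟨k, fun e => by rw [e] at hk; omega, by omega, ?_⟩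
  rw [show β k - r = m + m - 1 - β j by omega]
  exact (h.iff _ h1).1 ⟨j, rfl⟩

theorem FM_ones_ne (hβ : Function.Injective β) (hs : Sz β n) : FM (Multiset.replicate n 1) β ≠ 0 := fun h0 => by
  have h1 : StrictMono (β ∘ Tuple.sort β) :=
    (Tuple.monotone_sort β).strictMono_of_injective (hβ.comp (Tuple.sort β).injective)
  have h2 := FM_ones_pos n h1 ((Equiv.sum_comp (Tuple.sort β) β).trans hs)
  rw [FM_alt, h0, smul_zero] at h2
  exact lt_irrefl _ h2

theorem FM_small {ε : ℕ} (hε : ε ≤ 1) (hβ : Function.Injective β) (hs : Sz β ε) :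
    Odd (FM (Multiset.replicate ε 1) β) := by
  have h1 : Good ε (Multiset.replicate ε 1) := by
    interval_cases ε
    · exact good_zero
    · exact good_zero.step (k := 0) one_pos
  rcases h1.val m β hβ hs with e | e | e
  · exact absurd e (FM_ones_ne hβ hs)
  · rw [e]; decide
  · rw [e]; decide

theorem FM_two {ε : ℕ} (hε : ε ≤ 1) (h : IsRefl β β) (hs : Sz β (r + r + ε)) (hr : r % 2 = 0) (h2 : 2 ≤ r)
    (hj : Hk β r j) : ∃ z : ℤ, Odd z ∧ FM (r ::ₘ r ::ₘ Multiset.replicate ε 1) β = 2 * z := by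
  classical
  obtain ⟨k, hkj, hk⟩ := mirror h hr hj
  have key : ∀ {a b : Fin m}, Hk β r a → Hk β r b → b ≠ a →
      Function.Injective (dn (dn β a r) b r) ∧ Sz (dn (dn β a r) b r) ε ∧
      FM (r ::ₘ Multiset.replicate ε 1) (dn β a r) = FM (Multiset.replicate ε 1) (dn (dn β a r) b r) := fun ha hb e => by
    have k1 := (ha.sz h.inj hs).2
    have k2 := ha.dn h.inj hb e
    have k3 := (k2.sz (ha.inj h.inj) k1).2
    rw [show r + r + ε - r - r = ε by omega] at k3
    exact ⟨k2.inj (ha.inj h.inj), k3, FM_one (by omega) _ (ha.inj h.inj) k1 (by omega) k2⟩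
  have h3 : univ.filter (Hk β r) = {j, k} := by
    ext l
    simp only [mem_filter, mem_univ, true_and, mem_insert, mem_singleton]
    refine ⟨fun hl => ?_, by rintro (rfl | rfl) <;> assumption⟩
    by_contra e
    push Not at e
    obtain ⟨k1, k2, -⟩ := key hj hk hkj
    have k3 := (((hj.dn h.inj hk hkj).dn (hj.inj h.inj) (hj.dn h.inj hl e.1) e.2).sz k1 k2).1
    omega
  have h4 : dn (dn β k r) j r = dn (dn β j r) k r := by
    funext l
    by_cases e1 : l = j
    · rw [e1, dn_self, dn_ne _ r hkj.symm, dn_ne _ r hkj.symm, dn_self]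
    by_cases e2 : l = k
    · rw [e2, dn_self, dn_ne _ r hkj, dn_ne _ r hkj, dn_self]
    · rw [dn_ne _ r e1, dn_ne _ r e2, dn_ne _ r e2, dn_ne _ r e1]
  obtain ⟨k1, k2, k3⟩ := key hj hk hkj
  refine ⟨_, FM_small hε k1 k2, ?_⟩
  rw [FM_hk (by omega), h3, sum_pair hkj.symm, k3, (key hk hj hkj.symm).2.2, h4, two_mul]

theorem diag_iff {x : ℕ} : 2 * x + 1 ∈ diag β ↔ m + x ∈ Set.range β := by
  rw [mem_diag]
  exact ⟨fun ⟨i, h1, h2⟩ => ⟨i, by omega⟩, fun ⟨i, h⟩ => ⟨i, by omega, by omega⟩⟩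

theorem diag_inj (hβ : StrictMono β) (hγ : StrictMono γ) (h : IsRefl β β) (h' : IsRefl γ γ) (e : diag β = diag γ) :
    β = γ := by
  have key : ∀ {β γ : Fin m → ℕ}, IsRefl β β → IsRefl γ γ → diag β = diag γ → Set.range β ⊆ Set.range γ :=
    fun {β γ} h h' e b hb => by
      have h1 : b < m + m := by
        obtain ⟨i, rfl⟩ := hb
        exact h.lt i
      by_cases h2 : m ≤ b
      · rw [show b = m + (b - m) by omega, ← diag_iff] at hb ⊢
        rwa [← e]
      · rw [h.iff _ h1, show m + m - 1 - b = m + (m - 1 - b) by omega, ← diag_iff] at hb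
        rw [h'.iff _ h1, show m + m - 1 - b = m + (m - 1 - b) by omega, ← diag_iff]
        rwa [← e]
  exact (hβ.range_inj hγ).1 ((key h h' e).antisymm (key h' h e.symm))

theorem exists_diag_eq {D : Finset ℕ} (ho : ∀ d ∈ D, d % 2 = 1) (hl : ∀ d ∈ D, d < m + m) :
    ∃ β : Fin m → ℕ, StrictMono β ∧ IsRefl β β ∧ diag β = D ∧ Sz β (∑ d ∈ D, d) := by
  classical
  obtain ⟨P, hP⟩ : ∃ P : ℕ → Prop, ∀ b, P b ↔ if m ≤ b then 2 * (b - m) + 1 ∈ D else 2 * (m - 1 - b) + 1 ∉ D :=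
    ⟨_, fun _ => Iff.rfl⟩
  have h1 : ∀ b < m + m, P b ↔ ¬ P (m + m - 1 - b) := fun b hb => by
    rw [hP, hP]
    by_cases e : m ≤ b
    · rw [if_pos e, if_neg (by omega), not_not, show m - 1 - (m + m - 1 - b) = b - m by omega]
    · rw [if_neg e, if_pos (by omega), show m + m - 1 - b - m = m - 1 - b by omega]
  have h2 : ((range (m + m)).filter P).card = m := by
    have k1 := card_filter_add_card_filter_not (s := range (m + m)) P
    have k2 : ((range (m + m)).filter P).card = ((range (m + m)).filter fun b => ¬ P b).card := by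
      refine card_nbij' (fun b => m + m - 1 - b) (fun b => m + m - 1 - b) (fun b hb => ?_) (fun b hb => ?_)
        (fun b hb => ?_) fun b hb => ?_
      all_goals simp only [coe_filter, mem_range, Set.mem_ofPred_eq] at hb ⊢
      · exact ⟨by omega, (h1 b hb.1).1 hb.2⟩
      · exact ⟨by omega, by_contra fun e => hb.2 ((h1 b hb.1).2 e)⟩
      · omega
      · omega
    rw [card_range] at k1
    omega
  have h3 : ∀ b, b ∈ Set.range (((range (m + m)).filter P).orderEmbOfFin h2) ↔ b < m + m ∧ P b := fun b => by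
    rw [range_orderEmbOfFin, mem_coe, mem_filter, mem_range]
  have h4 := (((range (m + m)).filter P).orderEmbOfFin h2).strictMono
  generalize ⇑(((range (m + m)).filter P).orderEmbOfFin h2) = β at h3 h4
  have h5 : IsRefl β β := ⟨h4.injective, h4.injective, fun i => ((h3 _).1 ⟨i, rfl⟩).1, fun i => ((h3 _).1 ⟨i, rfl⟩).1,
    fun b hb => by
      rw [h3, h3, h1 b hb]
      exact ⟨fun h h' => h.2 h'.2, fun h => ⟨hb, fun h' => h ⟨by omega, h'⟩⟩⟩⟩
  have h6 : diag β = D := by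
    ext d
    refine ⟨fun hd => ?_, fun hd => ?_⟩
    · have k1 := odd_of_mem_diag hd
      rw [show d = 2 * (d / 2) + 1 by omega] at hd ⊢
      rw [diag_iff, h3, hP, if_pos (Nat.le_add_right _ _), Nat.add_sub_cancel_left] at hd
      exact hd.2
    · have k1 := ho d hd
      have k2 := hl d hd
      rw [show d = 2 * (d / 2) + 1 by omega] at hd ⊢
      rw [diag_iff, h3, hP, if_pos (Nat.le_add_right _ _), Nat.add_sub_cancel_left]
      exact ⟨by omega, hd⟩
  obtain ⟨n, hn⟩ := Nat.exists_eq_add_of_le' (sum_le_of_injective h4.injective)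
  refine ⟨β, h4, h5, h6, ?_⟩
  rw [← h6, diag_sum h5 hn]
  exact hn

theorem small {E : Finset ℕ} (ho : ∀ d ∈ E, d % 2 = 1) {ε : ℕ} (hε : ε ≤ 1) (hs : ∑ d ∈ E, d = ε) (x : ℕ) :
    x ∈ E ↔ ε = 1 ∧ x = 1 := by
  have h1 : ∀ x ∈ E, ε = 1 ∧ x = 1 := fun x hx => by
    have k1 := single_le_sum (f := fun d => d) (fun _ _ => Nat.zero_le _) hx
    have k2 := ho x hx
    omega
  refine ⟨h1 x, fun h => by_contra fun hx => ?_⟩
  rw [sum_eq_zero fun y hy => absurd ((h1 y hy).2.trans h.2.symm ▸ hy) hx] at hs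
  omega

/-- the diagonal hook lengths -/
def Ds (ε u t : ℕ) : Finset ℕ :=
  if ε = 1 ∧ t = 0 then {4 * u + 1} else {2 * t + 1, 4 * u - (2 * t + 1)} ∪ if ε = 1 then {1} else ∅

theorem mem_Ds {ε u t d : ℕ} : d ∈ Ds ε u t ↔ ((ε = 1 ∧ t = 0) ∧ d = 4 * u + 1) ∨
    (¬ (ε = 1 ∧ t = 0) ∧ (d = 2 * t + 1 ∨ d = 4 * u - (2 * t + 1) ∨ (ε = 1 ∧ d = 1))) := by
  unfold Ds
  by_cases h1 : ε = 1 <;> by_cases h2 : t = 0 <;> simp [h1, h2, or_comm, or_left_comm]

theorem sum_Ds {ε u t : ℕ} (hε : ε ≤ 1) (ht : t < u) : ∑ d ∈ Ds ε u t, d = 4 * u + ε := by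
  unfold Ds
  split_ifs with h1 h2
  · rw [sum_singleton, h1.1]
  · rw [sum_union (by simp; omega), sum_pair (by omega), sum_singleton]
    omega
  · rw [union_empty, sum_pair (by omega)]
    omega

theorem card_self {ε u : ℕ} (hε : ε ≤ 1) (hu : 0 < u) (hm : 4 * u + ε ≤ m) :
    Nat.card {β : Fin m → ℕ // (StrictMono β ∧ Sz β (4 * u + ε)) ∧ IsRefl β β ∧ ∃ j, Hk β (2 * u) j} = u := by
  have h1 : ∀ t : Fin u, ∃ β : {β : Fin m → ℕ // (StrictMono β ∧ Sz β (4 * u + ε)) ∧ IsRefl β β ∧ ∃ j, Hk β (2 * u) j},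
      diag β.1 = Ds ε u t := fun t => by
    have ht := t.2
    obtain ⟨β, k1, k2, k3, k4⟩ := exists_diag_eq (m := m) (D := Ds ε u t) (fun d hd => by rw [mem_Ds] at hd; omega)
      fun d hd => by rw [mem_Ds] at hd; omega
    rw [sum_Ds hε ht] at k4
    refine ⟨⟨β, ⟨k1, k4⟩, k2, ?_⟩, k3⟩
    by_cases e : ε = 1 ∧ (t : ℕ) = 0
    · obtain ⟨j, hj⟩ := diag_iff.1 (show 2 * (2 * u) + 1 ∈ diag β by rw [k3, mem_Ds]; omega)
      refine ⟨j, by omega, fun h => ?_⟩
      rw [show β j - 2 * u = m + 0 by omega, ← diag_iff, k3, mem_Ds] at h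
      omega
    · obtain ⟨j, hj⟩ := diag_iff.1 (show 2 * (t : ℕ) + 1 ∈ diag β by rw [k3, mem_Ds]; omega)
      refine ⟨j, by omega, fun h => (k2.iff _ (by omega)).1 h ?_⟩
      rw [show m + m - 1 - (β j - 2 * u) = m + (2 * u - 1 - t) by omega, ← diag_iff, k3, mem_Ds]
      omega
  choose f hf using h1
  refine (Nat.card_eq_of_bijective f ⟨fun s t e => Fin.ext ?_, fun β => ?_⟩).symm.trans (Nat.card_fin u)
  · have k1 : Ds ε u s = Ds ε u t := by rw [← hf, ← hf, e]
    have k2 : ∀ d, d ∈ Ds ε u s ↔ d ∈ Ds ε u t := fun d => by rw [k1]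
    have k3 := k2 (4 * u + 1)
    have k4 := k2 (4 * u - (2 * s + 1))
    have := s.2
    have := t.2
    simp only [mem_Ds, and_true, true_or, or_true] at k3 k4
    omega
  · obtain ⟨β, ⟨k1, k2⟩, k3, j, hj⟩ := β
    suffices H : ∃ t : Fin u, diag β = Ds ε u t by
      obtain ⟨t, ht⟩ := H
      exact ⟨t, Subtype.ext (diag_inj (f t).2.1.1 k1 (f t).2.2.1 k3 ((hf t).trans ht.symm))⟩
    obtain ⟨z, hz, e⟩ := FM_two hε k3 (r := 2 * u) (by rwa [show 2 * u + 2 * u + ε = 4 * u + ε by omega]) (by omega)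
      (by omega) hj
    have k4 := diag_sum k3 k2
    have k5 : ∀ S ⊆ diag β, ∀ δ ≤ 1, ∑ d ∈ S, d + δ = 4 * u + ε → ∀ x, x ∈ diag β \ S ↔ δ = 1 ∧ x = 1 :=
      fun S hS δ hδ h => small (fun d hd => odd_of_mem_diag (mem_sdiff.1 hd).1) hδ (by
        have := sum_sdiff (f := fun d => d) hS
        omega)
    have k6 : ∀ d ∈ diag β, ∀ d' ∈ diag β, d < d' → d + d' = 2 * (2 * u) → ∃ t : Fin u, diag β = Ds ε u t :=
      fun d hd d' hd' h1 h2 => by
        have o1 := odd_of_mem_diag hd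
        have o2 := k5 {d, d'} (insert_subset hd (singleton_subset_iff.2 hd')) ε hε (by rw [sum_pair h1.ne]; omega)
        simp only [mem_sdiff, mem_insert, mem_singleton] at o2
        have o3 := o2 1
        refine ⟨⟨d / 2, by omega⟩, Finset.ext fun x => ?_⟩
        have o4 := o2 x
        rw [mem_Ds]
        simp only
        by_cases hx : x ∈ diag β
        · simp only [hx, true_and, true_iff] at o4 ⊢
          by_cases h1' : 1 ∈ diag β <;> simp only [h1', true_and, false_and, and_true, false_iff] at o3 <;> omega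
        · have x1 : x ≠ d := fun e => hx (e ▸ hd)
          have x2 : x ≠ d' := fun e => hx (e ▸ hd')
          simp only [hx, false_and, false_iff] at o4 ⊢
          by_cases h1' : 1 ∈ diag β <;> simp only [h1', true_and, false_and, and_true, false_iff] at o3 <;> omega
    rcases hook_cases k3 (r := 2 * u) (by omega) (by omega) (s := 2 * u ::ₘ Multiset.replicate ε 1) (by
      rw [e]
      have := Int.odd_iff.1 hz
      omega) with ⟨d, hd, h1⟩ | ⟨d, hd, d', hd', h1, h2⟩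
    · have o1 := single_le_sum (f := fun d => d) (fun _ _ => Nat.zero_le _) hd
      have o2 := k5 {d} (singleton_subset_iff.2 hd) 0 zero_le_one (by rw [sum_singleton]; omega)
      refine ⟨⟨0, hu⟩, Finset.ext fun x => ?_⟩
      have o4 := o2 x
      rw [mem_Ds]
      simp only [mem_sdiff, mem_singleton, zero_ne_one, false_and, iff_false, and_true] at o4 ⊢
      by_cases hx : x ∈ diag β
      · simp only [hx, true_and, true_iff] at o4 ⊢
        omega
      · have x1 : x ≠ d := fun e => hx (e ▸ hd)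
        simp only [hx, false_iff]
        omega
    · rcases lt_or_gt_of_ne h1 with h | h
      · exact k6 d hd d' hd' h h2
      · exact k6 d' hd' d hd h (by omega)

theorem vanish_of_refl {α : Type} [Fintype α] [DecidableEq α] (hβ : StrictMono β) (hs : Sz β (Fintype.card α))
    (h : IsRefl β β) (g : Perm α) (hg : g ∉ alternatingGroup α) : ch α β g = 0 := by
  have h1 := H615.AltConj.ch_refl h hβ hβ hs g
  rcases Int.units_eq_one_or (Perm.sign g) with e | e
  · exact absurd (Perm.mem_alternatingGroup.2 e) hg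
  · rw [sgn_def, e] at h1
    generalize ch α β g = c at h1 ⊢
    push_cast at h1
    linear_combination h1 / 2

theorem index_alt (hn : 2 ≤ n) : (alternatingGroup (Fin n)).index = 2 :=
  have : Nontrivial (Fin n) := Fin.nontrivial_iff_two_le.2 hn
  alternatingGroup.index_eq_two

theorem not_vn {k l : ℕ} (h1 : 2 ≤ l) (h2 : l < 2 ^ k) (χ : Perm (Fin (2 ^ k + l)) → ℂ) :
    ¬ Vn (alternatingGroup (Fin (2 ^ k + l))) χ := fun h => by
  have hc := Fintype.card_fin (2 ^ k + l)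
  obtain ⟨β, hβ, hs, rfl⟩ := irr_eq (m := 2 ^ k + l) hc.le h.1
  rw [hc] at hs
  have hr := isRefl_of_vanish hβ hs le_rfl h.2.1
  have he : 2 ^ k % 2 = 0 := by
    rcases k with _ | k
    · omega
    · omega
  have hp : ∀ r ∈ 2 ^ k ::ₘ 2 ::ₘ Multiset.replicate (l - 2) 1, ∃ i, r = 2 ^ i := fun r hr => by
    simp only [Multiset.mem_cons, Multiset.mem_replicate] at hr
    rcases hr with rfl | rfl | ⟨-, rfl⟩
    exacts [⟨k, rfl⟩, ⟨1, rfl⟩, ⟨0, rfl⟩]
  obtain ⟨y, hy⟩ := exists_ty (α := Fin (2 ^ k + l)) (s := 2 ^ k ::ₘ 2 ::ₘ Multiset.replicate (l - 2) 1)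
    (by simp; omega) fun r hr => by
      obtain ⟨i, rfl⟩ := hp r hr
      positivity
  obtain ⟨j, hj⟩ := pow_of_ty (g := y) (hy ▸ hp)
  obtain ⟨s, s1, s2⟩ := exists_odd_comm (g := y) (r := 2) (by rw [hy]; simp) even_two
  refine van_zero (index_alt (by omega)) h (mem_alt_of_ty ?_) s1 s2 hj ?_
  · rw [hy, hc, Nat.even_iff]
    simp only [Multiset.card_cons, Multiset.card_replicate]
    omega
  · rw [ch_apply, hy, FM_none (by positivity), Int.cast_zero]
    intro a ha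
    obtain ⟨b, hb, hb'⟩ := mirror hr he ha
    exact hb (ha.uniq hβ.injective hs (by omega) hb')

theorem nv_zero {k l : ℕ} (h1 : 2 ≤ l) (h2 : l < 2 ^ k) : nv (alternatingGroup (Fin (2 ^ k + l))) = 0 :=
  have : IsEmpty {χ // Vn (alternatingGroup (Fin (2 ^ k + l))) χ} := ⟨fun χ => not_vn h1 h2 χ.1 χ.2⟩
  Nat.card_of_isEmpty

theorem nv_pow {k ε : ℕ} (hε : ε ≤ 1) (hn : n = 4 * 2 ^ k + ε) : nv (alternatingGroup (Fin n)) = 2 ^ k := by
  have hc := Fintype.card_fin n
  have h0 := Nat.two_pow_pos k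
  have hp : ∀ r ∈ 2 * 2 ^ k ::ₘ 2 * 2 ^ k ::ₘ Multiset.replicate ε 1, ∃ i, r = 2 ^ i := fun r hr => by
    simp only [Multiset.mem_cons, Multiset.mem_replicate] at hr
    rcases hr with rfl | rfl | ⟨-, rfl⟩
    exacts [⟨k + 1, (pow_succ' 2 k).symm⟩, ⟨k + 1, (pow_succ' 2 k).symm⟩, ⟨0, rfl⟩]
  obtain ⟨y, hy⟩ := exists_ty (α := Fin n) (s := 2 * 2 ^ k ::ₘ 2 * 2 ^ k ::ₘ Multiset.replicate ε 1)
    (by simp; omega) fun r hr => by
      obtain ⟨i, rfl⟩ := hp r hr
      positivity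
  obtain ⟨j, hj⟩ := pow_of_ty (g := y) (hy ▸ hp)
  obtain ⟨s, s1, s2⟩ := exists_odd_comm (g := y) (r := 2 * 2 ^ k) (by rw [hy]; simp) (even_two_mul _)
  have hy' : y ∈ alternatingGroup (Fin n) := mem_alt_of_ty (by
    rw [hy, hc, Nat.even_iff]
    simp only [Multiset.card_cons, Multiset.card_replicate]
    omega)
  have hi := index_alt (n := n) (by omega)
  rw [← card_self (m := n) hε h0 hn.ge, ← hn]
  have hz : ∀ {β : Fin n → ℕ}, Sz β n → Sz β (Fintype.card (Fin n)) := fun h => hc.symm ▸ h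
  have key : ∀ β : {β : Fin n → ℕ // (StrictMono β ∧ Sz β n) ∧ IsRefl β β ∧ ∃ j, Hk β (2 * 2 ^ k) j},
      Vn (alternatingGroup (Fin n)) (ch (Fin n) β.1) := by
    rintro ⟨β, ⟨k1, k2⟩, k3, a, ha⟩
    have k4 := vanish_of_refl (α := Fin n) k1 (hz k2) k3
    obtain ⟨z, hz', e⟩ := FM_two hε k3 (r := 2 * 2 ^ k) (by rwa [show 2 * 2 ^ k + 2 * 2 ^ k + ε = n by omega])
      (by omega) (by omega) ha
    exact ⟨isIrr_ch k1 (hz k2), k4, (van_iff hi (isIrr_ch k1 (hz k2)) k4 hy' s1 s2 hj (by rw [ch_apply, hy, e])).2 hz'⟩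
  refine (Nat.card_eq_of_bijective (fun β => (⟨_, key β⟩ : {χ // Vn (alternatingGroup (Fin n)) χ}))
    ⟨fun β γ h => ?_, fun χ => ?_⟩).symm
  · exact Subtype.ext (ch_inj β.2.1.1 γ.2.1.1 (hz β.2.1.2) (congrArg Subtype.val h))
  · obtain ⟨χ, h⟩ := χ
    obtain ⟨β, hβ, hs, rfl⟩ := irr_eq (m := n) hc.le h.1
    rw [hc] at hs
    refine ⟨⟨β, ⟨hβ, hs⟩, isRefl_of_vanish hβ hs le_rfl h.2.1, by_contra fun e => ?_⟩, rfl⟩
    refine van_zero hi h hy' s1 s2 hj ?_
    rw [ch_apply, hy, FM_none (by omega) _ fun a ha => e ⟨a, ha⟩, Int.cast_zero]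

/-- **the general case** -/
theorem ko_alt_gen {k l : ℕ} (h1 : 2 ≤ l) (h2 : l < 2 ^ k) :
    2 * ko (alternatingGroup (Fin (2 ^ k + l))) = ko (Perm (Fin (2 ^ k + l))) := by
  rw [idx2 (index_alt (by omega)), nv_zero h1 h2, mul_zero, add_zero]

/-- **the degrees `2 ^ k` and `2 ^ k + 1`** -/
theorem ko_alt_pow {k ε : ℕ} (hε : ε ≤ 1) (hn : n = 2 ^ (k + 2) + ε) : ko (alternatingGroup (Fin n)) = 2 ^ (k + 2) := by
  have h0 := Nat.two_pow_pos k
  have h3 : 2 ^ (k + 2) = 4 * 2 ^ k := by ring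
  have h1 := idx2 (index_alt (n := n) (by omega))
  have h2 : ko (Perm (Fin ε)) = 1 := by
    interval_cases ε
    · exact ko_zero (Fintype.card_fin 0)
    · exact ko_pow (k := 0) (Fintype.card_fin 1)
  rw [nv_pow (k := k) hε (by omega), ko_step (γ := Fin ε) (k := k + 2) (by rw [Fintype.card_fin]; omega)
    (by rw [Fintype.card_fin, Fintype.card_fin, hn]), h2] at h1
  omega

end Cfsg.Agent.MK.A
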