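import Cfsg.Agent.MK.A.Four
import Cfsg.Agent.MK.T.D

/-!
# MK, alternating groups: triple covers with dihedral Sylow subgroups of order eight (helper42)

* `kk_four`, `fB_two` : the counts for all subgroups which contain the element of order four;
* `exists_comm`, `det_eq` : the action on the centre is the determinant of the action on a Sylow `3`-subgroup;
* `sm_four`, `sm_four_out` : the small rows.
-/

set_option autoImplicit false
set_option maxHeartbeats 400000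

namespace Cfsg.Agent.MK.A

open Cfsg Subgroup Cfsg.Agent.MK.T

variable {X S : Type} [Group X] [Group S] [Finite X]

theorem four_of (ψ : X →* S) {Z : Subgroup X} (hψ : ψ.ker = Z) (hZ : Z ≤ center X) (h3 : ∀ z ∈ Z, z ^ 3 = 1)
    (m : Z →* ℂˣ) {u k : X} (h4 : u ^ 4 = 1) (h2 : ψ u ^ 2 ≠ 1) (hk : k * u * k⁻¹ = u⁻¹)
    (hC : ∀ s, s * ψ u = ψ u * s → s ∈ zpowers (ψ u)) :
    Nat.card {χ : X → ℂ // OI X χ ∧ ∀ z : Z, χ z = m z * χ 1} = 4 := by
  subst hψ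
  have := two_prime
  refine four hZ h3 m h4 (fun h => h2 (by rw [h, map_one, one_pow])) hk ?_
  let ρ := ψ.comp (centralizer ({u} : Set X)).subtype
  have h5 : ρ.range = zpowers (ψ u) := le_antisymm (by
    rintro _ ⟨x, rfl⟩
    exact hC _ (by
      show ψ x * ψ u = ψ u * ψ x
      rw [← map_mul, ← map_mul, mem_centralizer_singleton_iff.1 x.2]))
    (zpowers_le.2 ⟨⟨u, mem_centralizer_singleton_iff.2 rfl⟩, rfl⟩)
  have h6 : orderOf (ψ u) = 2 ^ (1 + 1) := orderOf_eq_prime_pow h2 (by rw [← map_pow]; exact h4 ▸ map_one ψ)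
  rw [← ρ.ker.index_mul_card, index_ker, h5, Nat.card_zpowers, h6]
  exact congrArg (4 * ·) (Nat.card_congr (subgroupOfEquivOfLe (H := ψ.ker) fun z hz =>
    mem_centralizer_singleton_iff.2 (mem_center_iff.1 (hZ hz) u).symm).toEquiv)

omit [Finite X] in
theorem fB_def (K : Subgroup X) (l : X → ℂ) (α : MulAut X) : fB K l α =
    Nat.card {ψ : K → ℂ // OI K ψ ∧ Ov K (center X) l ψ ∧ ∀ y y' : K, (y' : X) = α y → ψ y' = ψ y} := rfl

omit [Finite X] in
theorem fA_top (l : X → ℂ) (α : MulAut X) : fA l α = fB ⊤ l α :=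
  (card_congr (topEquiv (G := X)) fun χ _ => and_congr
    ⟨fun h z hz => h ⟨z, trivial⟩ hz, fun h (z : (⊤ : Subgroup X)) hz => h (z : X) hz⟩
    ⟨fun h x => h ⟨x, trivial⟩ ⟨_, trivial⟩ rfl, fun h (y y' : (⊤ : Subgroup X)) e => (congrArg χ e).trans (h (y : X))⟩).symm

theorem fB_eq_of_hom {K K' : Subgroup X} (hK : center X ≤ K) (hK' : center X ≤ K') {l : X → ℂ} {α : MulAut X}
    (h : ∀ m : center X →* ℂˣ, (∀ z : center X, l z = m z) → fB K l α = fB K' l α) : fB K l α = fB K' l α := by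
  by_cases hm : ∃ m : center X →* ℂˣ, ∀ z : center X, l z = m z
  · obtain ⟨m, hm⟩ := hm
    exact h m hm
  · have k : ∀ K : Subgroup X, center X ≤ K → fB K l α = 0 := fun K hK => by
      rw [fB_def]
      exact (Nat.card_eq_zero.2 (Or.inl ⟨fun ψ =>
        hm (exists_hom hK (fun z hz x _ => mem_center_iff.1 hz x) ψ.2.1.1 ψ.2.2.1)⟩))
    rw [k K hK, k K' hK']

omit [Finite X] in
theorem ov_iff {K : Subgroup X} {l : X → ℂ} {m : center X →* ℂˣ} (hm : ∀ z : center X, l z = m z) (ψ : K → ℂ) :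
    Ov K (center X) l ψ ↔ ∀ z : (center X).subgroupOf K, ψ z = m.comp (K.subtype.subgroupComap _) z * ψ 1 :=
  ⟨fun h z => (h z z.2).trans (congrArg (· * ψ 1) (hm ⟨z, z.2⟩)),
    fun h z hz => (h ⟨z, hz⟩).trans (congrArg (· * ψ 1) (hm ⟨z, hz⟩).symm)⟩

omit [Finite X] in
theorem sub_cen (K : Subgroup X) : (center X).subgroupOf K ≤ center K := fun _ hz =>
  mem_center_iff.2 fun g => Subtype.ext (mem_center_iff.1 hz g)

variable (φ : X →* S) (hφ : Function.Surjective φ) (hk : φ.ker = center X) (h3 : Nat.card (center X) = 3)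

omit [Finite X] in
include h3 in
theorem cen_cube {z : X} (hz : z ∈ center X) : z ^ 3 = 1 :=
  congrArg Subtype.val (h3 ▸ pow_card_eq_one' : (⟨z, hz⟩ : center X) ^ 3 = 1)

include hk h3

omit [Finite X] in
theorem eq_of_four {a b : X} (ha : a ^ 4 = 1) (hb : b ^ 4 = 1) (h : φ a = φ b) : a = b := by
  have h1 : a * b⁻¹ ∈ center X := by rw [← hk, MonoidHom.mem_ker, map_mul, map_inv, h, mul_inv_cancel]
  rw [← inv_mul_cancel_right a b, Commute.mul_pow (mem_center_iff.1 h1 b).symm, hb, mul_one, pow_succ, cen_cube h3 h1,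
    one_mul] at ha
  exact mul_inv_eq_one.1 ha

omit [Finite X] in
include hφ in
theorem lift_four {s : S} (hs : s ^ 4 = 1) : ∃ x : X, x ^ 4 = 1 ∧ φ x = s := by
  obtain ⟨x, rfl⟩ := hφ s
  have h1 : x ^ 4 ∈ center X := by rw [← hk, MonoidHom.mem_ker, map_pow, hs]
  refine ⟨x ^ 9, ?_, ?_⟩
  · rw [← pow_mul, show 9 * 4 = 4 * 3 * 3 from rfl, pow_mul, pow_mul, cen_cube h3 h1, one_pow]
  · rw [map_pow, show 9 = 4 * 2 + 1 from rfl, pow_succ, pow_mul, hs, one_pow, one_mul]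

theorem kk_four {K : Subgroup X} {u k : X} (hu : u ∈ K) (hkK : k ∈ K) (h4 : u ^ 4 = 1) (h2 : φ u ^ 2 ≠ 1)
    (hi : φ k * φ u * (φ k)⁻¹ = (φ u)⁻¹) (hC : ∀ s, s * φ u = φ u * s → s ∈ zpowers (φ u)) {l : X → ℂ}
    {m : center X →* ℂˣ} (hm : ∀ z : center X, l z = m z) : kk K (center X) l = 4 := by
  refine Eq.trans (Nat.card_congr (Equiv.subtypeEquivRight fun ψ => and_congr_right fun _ => ov_iff hm ψ))
    (four_of (φ.comp K.subtype) (by rw [← MonoidHom.comap_ker, hk]; rfl) (sub_cen K)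
      (fun z hz => Subtype.ext (cen_cube h3 hz)) _ (u := ⟨u, hu⟩) (k := ⟨k, hkK⟩) (Subtype.ext h4) h2
      (Subtype.ext (eq_of_four φ hk h3 ?_ ?_ ?_)) hC)
  · show (k * u * k⁻¹) ^ 4 = 1
    rw [conj_pow, h4, mul_one, mul_inv_cancel]
  · show u⁻¹ ^ 4 = 1
    rw [inv_pow, h4, inv_one]
  · show φ (k * u * k⁻¹) = φ u⁻¹
    rw [map_mul, map_mul, map_inv, map_inv, hi]

theorem fB_two (hp : _root_.commutator X = ⊤) {K : Subgroup X} {γ : MulAut X} {μ : MulAut S}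
    (hγ : ∀ x, φ (γ x) = μ (φ x)) (hz : ∀ z ∈ center X, γ z = z) (hK : ∀ x, γ x ∈ K ↔ x ∈ K) {u : X} (hu : u ∈ K)
    (h4 : u ^ 4 = 1) (h2 : φ u ^ 2 ≠ 1) (h5 : μ (φ u) = (φ u)⁻¹) (h6 : ∀ s, μ (μ s) = φ u ^ 2 * s * (φ u ^ 2)⁻¹)
    (h7 : ∀ s, μ s = s → s = 1 ∨ s = φ u ^ 2) {l : X → ℂ} {m : center X →* ℂˣ} (hm : ∀ z : center X, l z = m z) :
    fB K l γ = 2 := by
  have k1 : γ u = u⁻¹ := eq_of_four φ hk h3 (by rw [← map_pow, h4, map_one]) (by rw [inv_pow, h4, inv_one])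
    (by rw [hγ, h5, map_inv])
  have k2 : u ^ 2 * u ^ 2 = 1 := by rw [← pow_add, h4]
  have k3 : γ (u ^ 2) = u ^ 2 := by rw [map_pow, k1, inv_pow, inv_eq_of_mul_eq_one_right k2]
  have k4 := eq_one_of_ind φ hk hp (α := (MulAut.conj (u ^ 2))⁻¹ * (γ * γ)) fun x => by
    rw [MulAut.mul_apply, MulAut.conj_inv_apply, map_mul, map_mul, MulAut.mul_apply, hγ, hγ, h6, map_inv, map_pow]
    group
  refine Eq.trans (Nat.card_congr (Equiv.subtypeEquivRight fun ψ => and_congr_right fun _ =>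
    and_congr (ov_iff hm ψ) (fix_iff (β := res K γ hK) (fun _ => rfl) ψ)))
    (fix_two (sub_cen K) (fun z hz => Subtype.ext (cen_cube h3 hz)) _ (t := ⟨u ^ 2, pow_mem hu 2⟩) (k := ⟨u, hu⟩)
      (fun x => Subtype.ext ?_) (Subtype.ext k2) (fun h => h2 ?_) (fun x => ?_) ?_)
  · exact MulEquiv.congr_fun (inv_mul_eq_one.1 k4).symm (x : X)
  · rw [← map_pow, show u ^ 2 = 1 from congrArg Subtype.val h, map_one]
  · show _ ↔ (x : X) ∈ center X ∨ (x : X) * u ^ 2 ∈ center X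
    rw [Subtype.ext_iff, res_coe]
    refine ⟨fun h => ?_, fun h => h.elim (hz _) fun h => ?_⟩
    · rw [← hk, MonoidHom.mem_ker, MonoidHom.mem_ker]
      refine (h7 (φ x) (by rw [← hγ, h])).imp id fun e => ?_
      rw [map_mul, e, ← map_pow, ← map_mul, k2, map_one]
    · have k5 := hz _ h
      rw [map_mul, k3] at k5
      exact mul_right_cancel k5
  · show u ^ 2 * u * (γ u)⁻¹ ∈ center X
    rw [k1, inv_inv, ← pow_succ, ← pow_succ, h4]
    exact one_mem _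

include hφ

/-- the lifts of the generators of a Sylow `3`-subgroup do not commute -/
theorem exists_comm (hp : _root_.commutator X = ⊤) {a b : S} (ha : a ^ 3 = 1) (hb : b ^ 3 = 1) (hab : a * b = b * a)
    (h1 : a ≠ 1) (h2 : b ∉ zpowers a) (h27 : ¬ 27 ∣ Nat.card S) :
    ∃ x y c : X, φ x = a ∧ φ y = b ∧ c ∈ center X ∧ c ≠ 1 ∧ x * y = c * (y * x) := by
  have : Fact (Nat.Prime 3) := ⟨Nat.prime_three⟩
  have : Finite S := Finite.of_surjective φ hφ
  obtain ⟨x, rfl⟩ := hφ a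
  obtain ⟨y, rfl⟩ := hφ b
  refine ⟨x, y, x * y * (y * x)⁻¹, rfl, rfl, by
    rw [← hk, MonoidHom.mem_ker, map_mul, map_inv, map_mul, map_mul, hab, mul_inv_cancel], fun h => ?_,
    (inv_mul_cancel_right _ _).symm⟩
  have hxy : Commute x y := mul_inv_eq_one.1 h
  have hc : Commute (φ x) (φ y) := hab
  let E : Subgroup S :=
    { carrier := {s | ∃ i j : ℕ, s = φ x ^ i * φ y ^ j}
      one_mem' := ⟨0, 0, by simp⟩
      mul_mem' := by
        rintro _ _ ⟨i, j, rfl⟩ ⟨k, l, rfl⟩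
        exact ⟨i + k, j + l, by rw [pow_add, pow_add, (hc.pow_pow k j).symm.mul_mul_mul_comm]⟩
      inv_mem' := by
        rintro _ ⟨i, j, rfl⟩
        refine ⟨2 * i, 2 * j, inv_eq_of_mul_eq_one_right ?_⟩
        rw [(hc.pow_pow (2 * i) j).symm.mul_mul_mul_comm, ← pow_add, ← pow_add, show i + 2 * i = 3 * i by ring,
          show j + 2 * j = 3 * j by ring, pow_mul, pow_mul, ha, hb, one_pow, one_pow, one_mul] }
  have k1 : IsPGroup 3 E := by
    rintro ⟨_, i, j, rfl⟩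
    refine ⟨1, Subtype.ext ?_⟩
    show (φ x ^ i * φ y ^ j) ^ 3 ^ 1 = 1
    rw [pow_one, (hc.pow_pow i j).mul_pow, ← pow_mul, ← pow_mul, mul_comm i, mul_comm j, pow_mul, pow_mul, ha, hb,
      one_pow, one_pow, one_mul]
  have k2 : ¬ 3 ∣ E.index := fun h4 => by
    obtain ⟨n, hn⟩ := k1.exists_card_eq
    have h5 : zpowers (φ x) < E := lt_of_le_of_ne (zpowers_le.2 ⟨1, 0, by simp⟩) fun e => h2 (e ▸ ⟨0, 1, by simp⟩)
    have h6 : Nat.card (zpowers (φ x)) < Nat.card E :=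
      lt_of_le_of_ne (card_le_of_le h5.le) fun e => h5.ne (eq_of_le_of_card_ge h5.le e.ge)
    rw [Nat.card_zpowers, orderOf_eq_prime ha h1, hn] at h6
    have h7 : 3 ^ 1 < 3 ^ n := h6
    refine h27 ?_
    rw [← E.index_mul_card, hn]
    exact mul_dvd_mul h4 (pow_dvd_pow 3 ((Nat.pow_lt_pow_iff_right (by norm_num)).1 h7) : 3 ^ 2 ∣ 3 ^ n)
  have k3 : IsPGroup 3 (E.comap φ) := k1.comap_of_ker_isPGroup φ (hk ▸ IsPGroup.of_card (n := 1) h3)
  have k4 : ∀ g : E.comap φ, ∃ z ∈ center X, ∃ i j : ℕ, (g : X) = z * (x ^ i * y ^ j) := fun ⟨g, i, j, e⟩ =>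
    ⟨g * (x ^ i * y ^ j)⁻¹, by rw [← hk, MonoidHom.mem_ker, map_mul, map_inv, map_mul, map_pow, map_pow, e, mul_inv_cancel],
      i, j, (inv_mul_cancel_right _ _).symm⟩
  have k5 : _root_.commutator (E.comap φ) = ⊥ := by
    rw [commutator_def, commutator_eq_bot_iff_le_centralizer]
    intro g _ g' _
    obtain ⟨z, hz, i, j, e⟩ := k4 g
    obtain ⟨z', hz', i', j', e'⟩ := k4 g'
    refine Subtype.ext ?_
    show (g' : X) * g = g * g'
    rw [e, e']
    refine Commute.mul_left (mem_center_iff.1 hz' _).symm (Commute.mul_right (mem_center_iff.1 hz _) ?_)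
    exact ((Commute.pow_pow_self x _ _).mul_right (hxy.pow_pow _ _)).mul_left
      ((hxy.symm.pow_pow _ _).mul_right (Commute.pow_pow_self y _ _))
  obtain ⟨z, hz⟩ : ∃ z : center X, z ≠ 1 :=
    have := Finite.one_lt_card_iff_nontrivial.1 (h3 ▸ (by norm_num : 1 < 3))
    exists_ne 1
  have k6 := OddHalf.LongSL.mem_commutator_of_center (E.comap φ) k3 (by rwa [index_comap_of_surjective _ hφ])
    (z := z) (show φ z ∈ E by rw [show φ z = 1 from hk.ge z.2]; exact one_mem E) z.2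
    (hp ▸ mem_top _)
  rw [k5, mem_bot] at k6
  exact hz (Subtype.ext (congrArg (fun g : E.comap φ => (g : X)) k6))

omit [Finite X] hφ h3 in
/-- **the determinant** -/
theorem det_eq {x y c : X} (hc : c ∈ center X) (h : x * y = c * (y * x)) {α : MulAut X} (hα : α c = c) {i j k l : ℕ}
    (h1 : φ (α x) = φ x ^ i * φ y ^ j) (h2 : φ (α y) = φ x ^ k * φ y ^ l) : c ^ (k * j + 1) = c ^ (i * l) := by
  have k0 : ∀ {a : X} {i j : ℕ}, φ a = φ x ^ i * φ y ^ j → ∃ z ∈ center X, a = z * (x ^ i * y ^ j) := fun {a i j} e =>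
    ⟨a * (x ^ i * y ^ j)⁻¹, by rw [← hk, MonoidHom.mem_ker, map_mul, map_inv, map_mul, map_pow, map_pow, e, mul_inv_cancel],
      (inv_mul_cancel_right _ _).symm⟩
  obtain ⟨v, hv, k1⟩ := k0 h1
  obtain ⟨w, hw, k2⟩ := k0 h2
  have k3 := congrArg α h
  rw [map_mul, map_mul, map_mul, hα, k1, k2] at k3
  have k4 : ∀ {a : X}, a ∈ center X → ∀ g g' : X, g * (a * g') = a * (g * g') := fun ha g g' => by
    rw [← mul_assoc, mem_center_iff.1 ha, mul_assoc]
  have k5 : x ^ i * y ^ j * (x ^ k * y ^ l) = c * (x ^ k * y ^ l * (x ^ i * y ^ j)) := by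
    rw [mul_assoc v, k4 hw, mul_assoc w, k4 hv, k4 hw v, ← k4 hc, ← k4 hc] at k3
    exact mul_left_cancel (mul_left_cancel k3)
  have k6 : ∀ i j k l : ℕ, c ^ (k * j) * (x ^ i * y ^ j * (x ^ k * y ^ l)) = x ^ (i + k) * y ^ (j + l) := fun i j k l => by
    rw [pow_add, pow_add, mul_assoc (x ^ i), mul_assoc (x ^ i), ← k4 (pow_mem hc _), ← mul_assoc (y ^ j),
      ← mul_assoc (c ^ _), ← comm_pow hc h, mul_assoc]
  have k7 := k6 i j k l
  rw [k5, add_comm i, add_comm j, ← k6 k l i j, ← mul_assoc, ← pow_succ] at k7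
  exact mul_right_cancel k7

omit h3 in
theorem exists_lift (T : Sylow 2 S) : ∃ Q : Sylow 2 X, (∀ x ∈ (Q : Subgroup X), φ x ∈ (T : Subgroup S)) ∧
    ∀ x, φ x ∈ (T : Subgroup S) → x ∈ normalizer ((Q : Subgroup X) : Set X) := by
  have := two_prime
  obtain ⟨Q, rfl⟩ := Sylow.mapSurjective_surjective hφ 2 T
  refine ⟨Q, fun x hx => mem_map_of_mem φ hx, fun x ⟨y, hy, e⟩ => ?_⟩
  rw [← inv_mul_cancel_right x y]
  exact mul_mem (center_le_normalizer _ (by rw [← hk, MonoidHom.mem_ker, map_mul, map_inv, e, mul_inv_cancel]))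
    (le_normalizer hy)

variable (T : Sylow 2 S) {u k : S} (hu : u ∈ (T : Subgroup S)) (hkT : k ∈ (T : Subgroup S)) (h4 : u ^ 4 = 1)
  (h2 : u ^ 2 ≠ 1) (hi : k * u * k⁻¹ = u⁻¹) (hC : ∀ s, s * u = u * s → s ∈ zpowers u)

include hu hkT h4 h2 hi hC

/-- the automorphisms which fix the centre are inner -/
theorem sm_four (h : ∀ α : MulAut X, (∀ z ∈ center X, α z = z) → ∃ x, α = MulAut.conj x) : Sm X := by
  obtain ⟨Q, -, hQ⟩ := exists_lift φ hφ hk T
  obtain ⟨u, h5, rfl⟩ := lift_four φ hφ hk h3 h4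
  obtain ⟨k, rfl⟩ := hφ k
  exact sm_of_inn h Q fun l _ => kk_eq_of_hom le_rfl le_top (center_le_normalizer _) fun m hm =>
    (kk_four φ hk h3 (mem_top _) (mem_top _) h5 h2 hi hC hm).trans
      (kk_four φ hk h3 (hQ _ hu) (hQ _ hkT) h5 h2 hi hC hm).symm

/-- an outer automorphism of order four -/
theorem sm_four_out (hp : _root_.commutator X = ⊤) {μ : MulAut S}
    (h : ∀ α : MulAut X, (∀ z ∈ center X, α z = z) →
      ∃ s, (∀ x, φ (α x) = MulAut.conj s (φ x)) ∨ ∀ x, φ (α x) = MulAut.conj s (μ (φ x)))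
    (hT : ∀ s ∈ (T : Subgroup S), μ s ∈ (T : Subgroup S)) (h5 : μ u = u⁻¹) (h6 : ∀ s, μ (μ s) = u ^ 2 * s * (u ^ 2)⁻¹)
    (h7 : ∀ s, μ s = s → s = 1 ∨ s = u ^ 2) : Sm X := by
  have := two_prime
  have k1 : ∀ α : MulAut X, (∀ z ∈ center X, α z = z) → ∃ x, α = MulAut.conj x ∨ ∃ γ : MulAut X,
      ((∀ z ∈ center X, γ z = z) ∧ ∀ y, φ (γ y) = μ (φ y)) ∧ α = MulAut.conj x * γ := fun α hα => by
    obtain ⟨s, hs⟩ := h α hα
    obtain ⟨x, rfl⟩ := hφ s
    have k2 : ∀ y, φ (((MulAut.conj x)⁻¹ * α) y) = (MulAut.conj (φ x))⁻¹ (φ (α y)) := fun y => by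
      rw [MulAut.mul_apply, MulAut.conj_inv_apply, MulAut.conj_inv_apply, map_mul, map_mul, map_inv]
    refine ⟨x, hs.imp (fun e => (inv_mul_eq_one.1 (eq_one_of_ind φ hk hp fun y => ?_)).symm) fun e =>
      ⟨(MulAut.conj x)⁻¹ * α, ⟨fun z hz => ?_, fun y => ?_⟩, (mul_inv_cancel_left _ _).symm⟩⟩
    · rw [k2, e, MulAut.inv_apply_self]
    · rw [MulAut.mul_apply, hα z hz, MulAut.conj_inv_apply, mul_assoc, ← mem_center_iff.1 hz x, inv_mul_cancel_left]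
    · rw [k2, e, MulAut.inv_apply_self]
  by_cases hγ : ∃ γ : MulAut X, (∀ z ∈ center X, γ z = z) ∧ ∀ y, φ (γ y) = μ (φ y)
  swap
  · exact sm_four φ hφ hk h3 T hu hkT h4 h2 hi hC fun α hα => (k1 α hα).imp fun x e => e.resolve_right
      fun ⟨γ, e1, _⟩ => hγ ⟨γ, e1⟩
  obtain ⟨γ, hz, hγ⟩ := hγ
  obtain ⟨Q, hQ1, hQ⟩ := exists_lift φ hφ hk T
  obtain ⟨u, h8, rfl⟩ := lift_four φ hφ hk h3 h4
  obtain ⟨k, rfl⟩ := hφ k
  have k3 : ∀ x, γ x ∈ (Q : Subgroup X) ↔ x ∈ (Q : Subgroup X) := stab_of_le fun x hx =>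
    (((Q.isPGroup'.map γ.toMonoidHom).inf_normalizer_sylow Q).le
      ⟨mem_map_of_mem _ hx, hQ _ (hγ x ▸ hT _ (hQ1 x hx))⟩).2
  have k4 : ∀ α : MulAut X, (∀ z ∈ center X, α z = z) → ∃ x, α = MulAut.conj x ∨ α = MulAut.conj x * γ := fun α hα =>
    (k1 α hα).imp fun x e => e.imp id fun ⟨δ, e1, e2⟩ => by
      rw [e2, mul_inv_eq_one.1 (eq_one_of_ind φ hk hp (α := δ * γ⁻¹) fun y => by
        rw [MulAut.mul_apply, e1.2, ← hγ, MulAut.apply_inv_self])]
  refine sm_of_pair γ k4 Q k3 (fun l _ => kk_eq_of_hom le_rfl le_top (center_le_normalizer _) fun m hm =>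
    (kk_four φ hk h3 (mem_top _) (mem_top _) h8 h2 hi hC hm).trans
      (kk_four φ hk h3 (hQ _ hu) (hQ _ hkT) h8 h2 hi hC hm).symm) fun l _ => ?_
  rw [fA_top]
  exact fB_eq_of_hom le_top (center_le_normalizer _) fun m hm =>
    (fB_two φ hk h3 hp hγ hz (fun _ => Iff.rfl) (mem_top _) h8 h2 h5 h6 h7 hm).trans
      (fB_two φ hk h3 hp hγ hz (stab_norm k3) (hQ _ hu) h8 h2 h5 h6 h7 hm).symm

end Cfsg.Agent.MK.A
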