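import Cfsg.Agent.MK.A.Prod
import Cfsg.Agent.S0145

/-!
# MK, alternating groups: an element of order four with a small centraliser (helper42)

* `rel_orth` : the column orthogonality over a central character;
* `four` : if `|C(u)| = 4 |Z|`, then four characters of odd degree lie over each character of `Z`;
* `exists_two` : the extension of degree two which is defined by `β ^ 2 = conj t`; `fix_two` : the fixed characters.
-/

set_option autoImplicit false
set_option maxHeartbeats 400000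

namespace Cfsg.Agent.MK.A

open Cfsg Subgroup Finset Cfsg.Agent.Characters.Core Cfsg.Agent.MK.T Cfsg.Agent.J3Type.CharTools
open scoped ComplexConjugate

variable {G : Type} [Group G]

theorem cen_mul [Finite G] {χ : G → ℂ} (hχ : IsIrrCharacter G χ) {z : G} (hz : z ∈ center G) (g : G) :
    χ (z * g) = χ z / χ 1 * χ g := by
  obtain ⟨c, h, -⟩ := ODD.Red.exists_central hχ hz
  have h1 := h 1
  rw [mul_one] at h1
  rw [h, h1, mul_div_cancel_right₀ _ (isIrr_apply_one_ne_zero hχ)]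

open scoped Classical in
theorem rel_orth [Finite G] [Fintype (IrrCharacter G)] {Z : Subgroup G} [Fintype Z] (hZ : Z ≤ center G) (m : Z →* ℂˣ)
    (a b : G) : (Nat.card Z : ℂ) * ∑ χ : IrrCharacter G,
      (if ∀ z : Z, (χ : G → ℂ) z = m z * (χ : G → ℂ) 1 then (χ : G → ℂ) a * conj ((χ : G → ℂ) b) else 0) =
      ∑ z : Z, ((m z)⁻¹ : ℂˣ) * if IsConj (z * a) b then (Nat.card (centralizer ({b} : Set G)) : ℂ) else 0 := by
  have := Fintype.ofFinite G
  rw [Finset.sum_congr (s₁ := (univ : Finset Z)) rfl fun z _ => by rw [← S0145.sum_irr_mul_conj, Finset.mul_sum],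
    Finset.sum_comm, Finset.mul_sum]
  refine Finset.sum_congr rfl fun χ _ => ?_
  have h0 := isIrr_apply_one_ne_zero χ.2
  let ω : Z →* ℂ :=
    { toFun := fun z => ((m z)⁻¹ : ℂˣ) * ((χ : G → ℂ) z / (χ : G → ℂ) 1)
      map_one' := by rw [map_one, inv_one, Units.val_one, one_mul, Subgroup.coe_one, div_self h0]
      map_mul' := fun x y => by
        rw [map_mul, mul_inv, Units.val_mul, Subgroup.coe_mul, cen_mul χ.2 (hZ x.2)]
        ring }
  have h1 : ∑ z : Z, ((m z)⁻¹ : ℂˣ) * ((χ : G → ℂ) (z * a) * conj ((χ : G → ℂ) b)) =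
      (∑ z : Z, ω z) * ((χ : G → ℂ) a * conj ((χ : G → ℂ) b)) := by
    rw [Finset.sum_mul]
    refine Finset.sum_congr rfl fun z _ => ?_
    rw [cen_mul χ.2 (hZ z.2)]
    show _ = ((m z)⁻¹ : ℂˣ) * ((χ : G → ℂ) z / (χ : G → ℂ) 1) * _
    ring
  have h2 : ∀ z : Z, ω z = 1 ↔ (χ : G → ℂ) z = m z * (χ : G → ℂ) 1 := fun z => by
    show ((m z)⁻¹ : ℂˣ) * ((χ : G → ℂ) z / (χ : G → ℂ) 1) = 1 ↔ _
    rw [Units.inv_mul_eq_one, eq_div_iff h0, eq_comm]
  rw [h1]
  split_ifs with h
  · rw [Finset.sum_congr rfl fun z _ => (h2 z).2 (h z), Finset.sum_const, card_univ, nsmul_eq_mul, mul_one,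
      Nat.card_eq_fintype_card]
  · rw [sum_hom_units_eq_zero ω fun e => h fun z => (h2 z).1 (by rw [e]; rfl), zero_mul, mul_zero]

theorem four_aux {ι : Type} [Fintype ι] [DecidableEq ι] (s : Finset ι) (v : ι → ℤ) (d : ι → ℂ) (hd : ∀ i, d i ≠ 0)
    (h1 : ∑ i ∈ s, v i * v i = 4) (h2 : ∑ i ∈ s, v i * d i = 0) : (s.filter fun i => Odd (v i)).card = 4 := by
  have h3 : ∀ i ∈ s, v i * v i ≤ 1 := fun i hi => by
    by_contra h
    have h4 : 4 ≤ v i * v i := by
      rcases lt_trichotomy (v i) 0 with h5 | h5 | h5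
      · have : v i ≤ -2 := by
          by_contra h6
          obtain h7 : v i = -1 := by omega
          rw [h7] at h
          omega
        nlinarith
      · rw [h5] at h
        omega
      · have : 2 ≤ v i := by
          by_contra h6
          obtain h7 : v i = 1 := by omega
          rw [h7] at h
          omega
        nlinarith
    rw [← Finset.add_sum_erase _ _ hi] at h1 h2
    have h5 : ∀ j ∈ s.erase i, 0 ≤ v j * v j := fun j _ => mul_self_nonneg _
    have h6 := (Finset.sum_eq_zero_iff_of_nonneg h5).1 (le_antisymm (by omega) (Finset.sum_nonneg h5))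
    rw [Finset.sum_eq_zero fun j hj => by rw [mul_self_eq_zero.1 (h6 j hj), Int.cast_zero, zero_mul], add_zero,
      mul_eq_zero, Int.cast_eq_zero] at h2
    rw [h2.resolve_right (hd i)] at h4
    omega
  rw [Finset.sum_congr rfl (g := fun i => if Odd (v i) then 1 else 0), Finset.sum_boole] at h1
  · exact_mod_cast h1
  · intro i hi
    have h4 := h3 i hi
    have h5 : -1 ≤ v i := by nlinarith
    have h6 : v i ≤ 1 := by nlinarith
    generalize v i = x at h5 h6
    interval_cases x <;> decide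

/-- **four characters of odd degree** -/
theorem four [Finite G] {Z : Subgroup G} (hZ : Z ≤ center G) (h3 : ∀ z ∈ Z, z ^ 3 = 1) (m : Z →* ℂˣ) {u k : G}
    (h4 : u ^ 4 = 1) (h1 : u ≠ 1) (hk : k * u * k⁻¹ = u⁻¹)
    (hC : Nat.card (centralizer ({u} : Set G)) = 4 * Nat.card Z) :
    Nat.card {χ : G → ℂ // OI G χ ∧ ∀ z : Z, χ z = m z * χ 1} = 4 := by
  classical
  have := finite_irr (G := G)
  have := Fintype.ofFinite (IrrCharacter G)
  have := Fintype.ofFinite Z
  have hv : ∀ χ : IrrCharacter G, ∃ v : ℤ, (χ : G → ℂ) u = v := fun χ =>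
    int_of_conj (isIrr_isCharacter χ.2) u fun n hn => by
      have h2 : n % 2 = 1 := by
        obtain ⟨j, -, hj⟩ := (Nat.dvd_prime_pow Nat.prime_two (m := 2)).1 (orderOf_dvd_of_pow_eq_one h4)
        rcases j with _ | j
        · exact absurd (orderOf_eq_one_iff.1 hj) h1
        · rw [hj] at hn
          exact Nat.odd_iff.1 (Nat.coprime_two_right.1 (hn.coprime_dvd_right (dvd_pow_self 2 j.succ_ne_zero)))
      rw [pow_eq_pow_mod n h4]
      rcases (by omega : n % 4 = 1 ∨ n % 4 = 3) with h | h <;> rw [h]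
      · rw [pow_one]
      · exact isConj_iff.2 ⟨k, by rw [hk, inv_eq_iff_mul_eq_one, ← pow_succ', h4]⟩
  choose v hv using hv
  have key : ∀ (z : Z) (b : G), b ^ 4 = 1 → IsConj (z * u) b → z = 1 := fun z b hb h => by
    obtain ⟨c, rfl⟩ := isConj_iff.1 h
    rw [conj_pow, mul_inv_eq_one, mul_eq_left, Commute.mul_pow (mem_center_iff.1 (hZ z.2) u).symm, h4, mul_one, pow_succ,
      h3 z z.2, one_mul] at hb
    exact Subtype.ext hb
  have hc : (Nat.card Z : ℂ) ≠ 0 := Nat.cast_ne_zero.2 Nat.card_pos.ne'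
  have k1 := rel_orth hZ m u u
  rw [Finset.sum_eq_single (1 : Z) (fun z _ hz => by rw [if_neg fun h => hz (key z u h4 h), mul_zero])
    (fun h => absurd (mem_univ _) h), Subgroup.coe_one, one_mul, if_pos (IsConj.refl u), map_one, inv_one, Units.val_one, one_mul,
    hC, Nat.cast_mul, mul_comm _ (Nat.card Z : ℂ), ← Finset.sum_filter] at k1
  have k2 := rel_orth hZ m u 1
  rw [Finset.sum_eq_zero (s := (univ : Finset Z)) (fun z _ => by
    rw [if_neg fun h => h1 (by
      have h5 := key z 1 (one_pow 4) h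
      rwa [h5, Subgroup.coe_one, one_mul, isConj_one_left] at h), mul_zero]), ← Finset.sum_filter] at k2
  have k3 := four_aux (univ.filter fun χ : IrrCharacter G => ∀ z : Z, (χ : G → ℂ) z = m z * (χ : G → ℂ) 1) v
    (fun χ => conj ((χ : G → ℂ) 1)) (fun χ => (map_ne_zero _).2 (isIrr_apply_one_ne_zero χ.2)) (by
      have h5 := mul_left_cancel₀ hc k1
      rw [Finset.sum_congr rfl fun χ _ => by rw [hv χ, map_intCast]] at h5
      exact_mod_cast h5) (by
      have h5 := (mul_eq_zero.1 k2).resolve_left hc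
      rwa [Finset.sum_congr rfl fun χ _ => by rw [hv χ]] at h5)
  rw [Finset.filter_filter, ← Fintype.card_subtype, ← Nat.card_eq_fintype_card] at k3
  rw [← k3]
  exact Nat.card_congr ⟨fun χ => ⟨⟨χ.1, χ.2.1.1⟩, χ.2.2,
      (par (isIrr_isCharacter χ.2.1.1) (j := 2) h4 (hv ⟨χ.1, χ.2.1.1⟩)).1 χ.2.1.2⟩,
    fun χ => ⟨χ.1.1, ⟨χ.1.2, (par (isIrr_isCharacter χ.1.2) (j := 2) h4 (hv χ.1)).2 χ.2.2⟩, χ.2.1⟩,
    fun _ => rfl, fun _ => rfl⟩

theorem card_two_res [Finite G] {L : Subgroup G} [L.Normal] (hL : L.index = 2) {g : G} (hg : g ∉ L)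
    {p : (G → ℂ) → Prop} {q : (L → ℂ) → Prop} (h : ∀ χ θ, (∀ n : L, χ n = θ n) → (p χ ↔ q θ)) :
    Nat.card {χ // OI G χ ∧ p χ} = 2 * Nat.card {θ // OI L θ ∧ q θ ∧ ∀ x, θ (MulAut.conjNormal g x) = θ x} := by
  have := Fintype.ofFinite G
  have := Fintype.ofFinite L
  have h1 := dc (L := L) (c := 1) (A' := fun χ => Odd (charDegree χ) ∧ p χ)
    (A := fun θ => Odd (charDegree θ) ∧ q θ ∧ ∀ x, θ (MulAut.conjNormal g x) = θ x) fun χ θ hχ hθ hc => by
      rcases H614.restrict_two L hL hχ hθ hc with h2 | h2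
      · have h3 : charDegree χ = charDegree θ := Blocks.Basic.charDegree_of_eq ((h2 1).trans (deg_eq hθ))
        refine ⟨?_, fun _ => by rw [Nat.cast_one, one_mul]; exact h2 1⟩
        rw [h3, h χ θ h2, and_iff_left fun x => by rw [← h2, ← h2]; exact isIrr_isClassFunction hχ x g]
      · have h4 : ¬ ∀ x, θ (MulAut.conjNormal g x) = θ x := fun h5 =>
          (con_cases Nat.prime_two hL hg hχ hθ hc).elim (fun h6 => isIrr_apply_one_ne_zero hθ (by
            linear_combination h6.2 - h2.1)) fun h6 => h6.1 h5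
        exact ⟨iff_of_false (fun h5 => not_van hL ⟨hχ, h5.1⟩ h2.2) fun h5 => h4 h5.2.2, fun h5 => absurd h5.2.2 h4⟩
  rw [one_pow, one_mul, hL] at h1
  simpa only [oi_def, and_assoc] using h1

/-- **the extension of degree two** -/
theorem exists_two [Finite G] {β : MulAut G} {t : G} (h1 : ∀ x, β (β x) = t * x * t⁻¹) (h2 : β t = t) :
    ∃ (W : Type) (_ : Group W) (_ : Finite W) (j : G →* W) (a : W), Function.Injective j ∧ j.range.index = 2 ∧
      a ∉ j.range ∧ (∀ x, j (β x) = a * j x * a⁻¹) ∧ a * a = j t := by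
  let f : G →* Equiv.Perm (G ⊕ G) := (Equiv.Perm.sumCongrHom G G).comp ((MulAction.toPermHom G G).prod
    ((MulAction.toPermHom G G).comp β.symm.toMonoidHom))
  let s : Equiv.Perm (G ⊕ G) := (Equiv.sumComm G G).trans (Equiv.sumCongr (Equiv.mulLeft t) (Equiv.refl G))
  have hf : Function.Injective f := fun x y h => by
    have h3 : (Sum.inl (x * 1) : G ⊕ G) = Sum.inl (y * 1) := Equiv.congr_fun h (Sum.inl 1)
    exact mul_right_cancel (Sum.inl_injective h3)
  have hs : s ∉ f.range := fun ⟨x, h⟩ => Sum.inl_ne_inr (Equiv.congr_fun h (Sum.inl 1))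
  have hα : ∀ x, f (β x) = s * f x * s⁻¹ := fun x => by
    rw [eq_mul_inv_iff_mul_eq]
    ext y
    rcases y with y | y
    · show Sum.inr (β.symm (β x) * y) = Sum.inr (x * y)
      rw [β.symm_apply_apply]
    · show Sum.inl (β x * (t * y)) = Sum.inl (t * (β.symm x * y))
      obtain ⟨x, rfl⟩ := β.surjective x
      rw [h1, β.symm_apply_apply]
      congr 1
      group
  have h3 : s * s = f t := by
    ext y
    rcases y with y | y
    · rfl
    · show Sum.inr (t * y) = Sum.inr (β.symm t * y)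
      rw [β.symm_apply_eq.2 h2.symm]
  have h4 : s * s ∈ f.range := ⟨t, h3.symm⟩
  have k1 : ∀ g ∈ f.range, s * g * s⁻¹ ∈ f.range := by
    rintro _ ⟨x, rfl⟩
    exact ⟨_, hα x⟩
  have k2 : ∀ g ∈ f.range, s⁻¹ * g * s ∈ f.range := by
    rintro _ ⟨x, rfl⟩
    obtain ⟨y, rfl⟩ := β.surjective x
    exact ⟨y, by rw [hα]; group⟩
  clear_value f s
  let W : Subgroup (Equiv.Perm (G ⊕ G)) :=
    { carrier := {g | g ∈ f.range ∨ g * s ∈ f.range}
      one_mem' := Or.inl (one_mem _)
      mul_mem' := by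
        rintro a b (ha | ha) (hb | hb)
        · exact Or.inl (mul_mem ha hb)
        · exact Or.inr (by rw [mul_assoc]; exact mul_mem ha hb)
        · exact Or.inr (by convert mul_mem ha (k2 _ hb) using 1; group)
        · exact Or.inl (by convert mul_mem (mul_mem ha (k2 _ hb)) (inv_mem h4) using 1; group)
      inv_mem' := by
        rintro a (ha | ha)
        · exact Or.inl (inv_mem ha)
        · exact Or.inr (by convert mul_mem (k1 _ (inv_mem ha)) h4 using 1; group) }
  let j : G →* W := f.codRestrict W fun x => Or.inl ⟨x, rfl⟩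
  have hr : ∀ w : W, w ∈ j.range ↔ (w : Equiv.Perm (G ⊕ G)) ∈ f.range := fun w =>
    ⟨fun ⟨x, e⟩ => ⟨x, congrArg Subtype.val e⟩, fun ⟨x, e⟩ => ⟨x, Subtype.ext e⟩⟩
  refine ⟨W, inferInstance, inferInstance, j, ⟨s, Or.inr h4⟩, fun _ _ e => hf (congrArg Subtype.val e), ?_,
    fun h => hs ((hr _).1 h), fun x => Subtype.ext (hα x), Subtype.ext h3⟩
  refine index_eq_two_iff.2 ⟨⟨s, Or.inr h4⟩, fun b => ?_⟩
  rw [hr, hr]
  have h5 : ¬ ((b : Equiv.Perm (G ⊕ G)) * s ∈ f.range ∧ (b : Equiv.Perm (G ⊕ G)) ∈ f.range) := fun h =>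
    hs ((mul_mem_cancel_left h.2).1 h.1)
  have h6 : (b : Equiv.Perm (G ⊕ G)) ∈ f.range ∨ (b : Equiv.Perm (G ⊕ G)) * s ∈ f.range := b.2
  show Xor ((b : Equiv.Perm (G ⊕ G)) * s ∈ f.range) _
  unfold Xor
  tauto

/-- **two fixed characters** -/
theorem fix_two [Finite G] {Z : Subgroup G} (hZ : Z ≤ center G) (h3 : ∀ z ∈ Z, z ^ 3 = 1) (m : Z →* ℂˣ)
    {β : MulAut G} {t k : G} (h1 : ∀ x, β (β x) = t * x * t⁻¹) (ht : t * t = 1) (ht1 : t ≠ 1)
    (hC : ∀ x, β x = x ↔ x ∈ Z ∨ x * t ∈ Z) (hk : t * k * (β k)⁻¹ ∈ Z) :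
    Nat.card {θ : G → ℂ // OI G θ ∧ (∀ z : Z, θ z = m z * θ 1) ∧ ∀ x, θ (β x) = θ x} = 2 := by
  obtain ⟨W, _, _, j, a, hj, hi, ha, hα, h2⟩ := exists_two h1 ((hC t).2 (Or.inr (ht ▸ one_mem Z)))
  have := normal_of_index_eq_two hi
  have htZ : t ∉ Z := fun h => ht1 (by
    have h4 := h3 t h
    rwa [pow_succ, pow_two, ht, one_mul] at h4)
  have hw : ∀ w : W, ∃ x, w = j x ∨ w = j x * a := fun w => by
    by_cases h : w ∈ j.range
    · exact h.imp fun _ e => Or.inl e.symm
    · obtain ⟨x, e⟩ := (mul_mem_iff_of_index_two hi).2 (iff_of_false h fun h4 => ha (inv_mem_iff.1 h4))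
      exact ⟨x, Or.inr (by rw [e, inv_mul_cancel_right])⟩
  have hca : ∀ x, j x * a = a * j x ↔ β x = x := fun x => by
    rw [← hj.eq_iff, hα, mul_inv_eq_iff_eq_mul, eq_comm]
  have hZ' : Z.map j ≤ center W := by
    rintro _ ⟨z, hz, rfl⟩
    refine mem_center_iff.2 fun w => ?_
    obtain ⟨x, rfl | rfl⟩ := hw w
    · rw [← map_mul, ← map_mul, mem_center_iff.1 (hZ hz)]
    · rw [mul_assoc, ← (hca z).2 ((hC z).2 (Or.inl hz)), ← mul_assoc, ← mul_assoc, ← map_mul, ← map_mul,
        mem_center_iff.1 (hZ hz)]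
  have h3' : ∀ z ∈ Z.map j, z ^ 3 = 1 := by
    rintro _ ⟨z, hz, rfl⟩
    rw [← map_pow, h3 z hz, map_one]
  have h4 : a ^ 4 = 1 := by rw [show 4 = 2 + 2 from rfl, pow_add, pow_two, h2, ← map_mul, ht, map_one]
  have h5 : j k * a * (j k)⁻¹ = a⁻¹ := by
    have k1 : j k * a * (j k)⁻¹ = j (t * k * (β k)⁻¹) * a⁻¹ := by
      have k0 := mem_center_iff.1 (hZ hk) t
      rw [show t * k * (β k)⁻¹ = k * (β k)⁻¹ * t from mul_left_cancel (k0.trans (by group)), map_mul, map_mul, map_inv,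
        hα, ← h2]
      group
    have k2 := congrArg (· ^ 4) k1
    simp only [conj_pow, h4, mul_one, mul_inv_cancel] at k2
    rw [Commute.mul_pow (mem_center_iff.1 (hZ' (mem_map_of_mem j hk)) a⁻¹).symm, inv_pow, h4, inv_one, mul_one, pow_succ,
      h3' _ (mem_map_of_mem j hk), one_mul] at k2
    rw [k1, ← k2, one_mul]
  let e := equivMapOfInjective Z j hj
  have h6 : Nat.card (centralizer ({a} : Set W)) = 4 * Nat.card (Z.map j) := by
    rw [← Nat.card_congr e.toEquiv, show 4 = Nat.card (Bool × Bool) by simp, ← Nat.card_prod]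
    have k0 : ∀ p : (Bool × Bool) × Z,
        j (p.2 * if p.1.1 then t else 1) * (if p.1.2 then a else 1) ∈ centralizer ({a} : Set W) := fun p => by
      refine mul_mem (mem_centralizer_singleton_iff.2 ((hca _).2 ((hC _).2 ?_))) ?_
      · split_ifs
        · exact Or.inr (by rw [mul_assoc, ht, mul_one]; exact p.2.2)
        · exact Or.inl (by rw [mul_one]; exact p.2.2)
      · split_ifs
        · exact mem_centralizer_singleton_iff.2 rfl
        · exact one_mem _
    refine (Nat.card_eq_of_bijective (fun p => ⟨_, k0 p⟩) ⟨?_, ?_⟩).symm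
    · rintro ⟨⟨b, c⟩, z⟩ ⟨⟨b', c'⟩, z'⟩ h
      have k1 : j (z * if b then t else 1) * (if c then a else 1) = j (z' * if b' then t else 1) * if c' then a else 1 :=
        congrArg Subtype.val h
      have k2 : ∀ x y, j x * a ≠ j y * 1 := fun x y h => ha ⟨x⁻¹ * y, by
        rw [map_mul, map_inv, ← mul_one (j y), ← h, inv_mul_cancel_left]⟩
      have k3 : ∀ x y : Z, (x : G) * t ≠ y * 1 := fun x y h => htZ (by
        rw [← eq_inv_mul_iff_mul_eq] at h
        rw [h]
        exact mul_mem (inv_mem x.2) (mul_mem y.2 (one_mem Z)))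
      obtain rfl : c = c' := by
        cases c <;> cases c'
        · rfl
        · exact absurd k1.symm (k2 _ _)
        · exact absurd k1 (k2 _ _)
        · rfl
      have k4 := hj (mul_right_cancel k1)
      obtain rfl : b = b' := by
        cases b <;> cases b'
        · rfl
        · exact absurd k4.symm (k3 _ _)
        · exact absurd k4 (k3 _ _)
        · rfl
      rw [Subtype.ext (mul_right_cancel k4)]
    · rintro ⟨w, h⟩
      have k1 : ∀ x, j x * a = a * j x → ∃ (b : Bool) (z : Z), x = z * if b then t else 1 := fun x hx => by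
        rcases (hC x).1 ((hca x).1 hx) with k2 | k2
        · exact ⟨false, ⟨x, k2⟩, (mul_one x).symm⟩
        · exact ⟨true, ⟨_, k2⟩, by rw [if_pos rfl, mul_assoc, ht, mul_one]⟩
      have k2 := mem_centralizer_singleton_iff.1 h
      obtain ⟨x, rfl | rfl⟩ := hw w
      · obtain ⟨b, z, rfl⟩ := k1 x k2
        exact ⟨((b, false), z), Subtype.ext (mul_one _)⟩
      · obtain ⟨b, z, rfl⟩ := k1 x (mul_right_cancel (k2.trans (mul_assoc _ _ _).symm))
        exact ⟨((b, true), z), rfl⟩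
  have h7 := four hZ' h3' (m.comp e.symm.toMonoidHom) h4 (fun h => ha (h ▸ one_mem _)) h5 h6
  have hp : ∀ χ : W → ℂ, (∀ z : Z.map j, χ z = (m.comp e.symm.toMonoidHom) z * χ 1) ↔ ∀ z : Z, χ (j z) = m z * χ 1 :=
    fun χ => ⟨fun h z => (h (e z)).trans (congrArg (fun y => ((m y : ℂˣ) : ℂ) * χ 1) (e.symm_apply_apply z)), fun h z => by
      obtain ⟨z, rfl⟩ := e.surjective z
      exact (h z).trans (congrArg (fun y => ((m y : ℂˣ) : ℂ) * χ 1) (e.symm_apply_apply z)).symm⟩
  rw [card_two_res hi ha (q := fun θ => ∀ z : Z, θ ⟨j z, z, rfl⟩ = m z * θ 1) fun χ θ h => by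
    rw [hp, ← h 1]
    exact forall_congr' fun z => by rw [← h]; rfl] at h7
  refine Nat.eq_of_mul_eq_mul_left two_pos (Eq.trans ?_ h7)
  congr 1
  refine card_congr (MonoidHom.ofInjective hj) fun θ _ => and_congr (forall_congr' fun z => ?_)
    ⟨fun h y => ?_, fun h x => ?_⟩
  · show θ (MonoidHom.ofInjective hj z) = m z * θ (MonoidHom.ofInjective hj 1) ↔ _
    rw [map_one]
    rfl
  · obtain ⟨x, rfl⟩ := (MonoidHom.ofInjective hj).surjective y
    exact (congrArg θ (Subtype.ext (hα x).symm)).trans (h x)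
  · exact (congrArg θ (Subtype.ext (hα x))).trans (h _)

end Cfsg.Agent.MK.A
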