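import Cfsg.Agent.MK.A.Two
import Cfsg.Agent.MK.T.B
import Cfsg.Agent.MK.Basic
import Cfsg.Agent.S0188
import Cfsg.Agent.HKS.CosetTwo

/-!
# MK, alternating groups: direct products, their subgroups of index two, extensions by a flip (helper42)

* `k0_prod`, `f0_flip` : the counts for `G × H` and for the flip of `G × G`;
* `k0_half`, `f0_half` : the same for the subgroup `{(a, b) | a ∈ D ↔ b ∈ E}`;
* `m0_of_odd` : the equality from a subgroup of odd index; `exists_ext` : the extension by an involution.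
-/

set_option autoImplicit false
set_option maxHeartbeats 400000

namespace Cfsg.Agent.MK.A

open Cfsg Subgroup Cfsg.Agent.Characters.Core Cfsg.Agent.MK.T Cfsg.Agent.HKS.CosetTwo Cfsg.Agent.QTNorm
open Cfsg.Agent.Blocks.Basic (charDegree_of_eq)

variable {G H : Type} [Group G] [Group H]

theorem k0_def : k0 G = Nat.card {χ : G → ℂ // OI G χ} := rfl

theorem f0_def (α : MulAut G) : f0 α = Nat.card {χ : G → ℂ // OI G χ ∧ ∀ x, χ (α x) = χ x} := rfl

theorem oi_def (χ : G → ℂ) : OI G χ ↔ IsIrrCharacter G χ ∧ Odd (charDegree χ) := Iff.rfl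

theorem deg_prod {φ : G → ℂ} {ψ : H → ℂ} (hφ : IsIrrCharacter G φ) (hψ : IsIrrCharacter H ψ) :
    charDegree (fun x : G × H => φ x.1 * ψ x.2) = charDegree φ * charDegree ψ :=
  charDegree_of_eq (by
    show φ 1 * ψ 1 = _
    rw [deg_eq hφ, deg_eq hψ, Nat.cast_mul])

theorem eq_of_prop [Finite G] {φ ψ : G → ℂ} (hφ : IsIrrCharacter G φ) (hψ : IsIrrCharacter G ψ) {c e : ℂ} (hc : c ≠ 0)
    (h : ∀ g, φ g * c = ψ g * e) : φ = ψ := by
  have := Fintype.ofFinite G
  by_contra hne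
  have h1 : c • φ = e • ψ := funext fun g => by
    rw [Pi.smul_apply, Pi.smul_apply, smul_eq_mul, smul_eq_mul, mul_comm, h, mul_comm]
  have h2 := congrArg (fun f => classInner f φ) h1
  simp only [classInner_smul_left] at h2
  rw [classInner_irr_self hφ, classInner_irr_ne hψ hφ (Ne.symm hne), mul_one, mul_zero] at h2
  exact hc h2

theorem eq_or_sg [Finite G] {D : Subgroup G} (hD : D.index = 2) {φ ψ : G → ℂ} (hφ : IsIrrCharacter G φ)
    (hψ : IsIrrCharacter G ψ) {c e : ℂ} (hc : c ≠ 0) (h : ∀ g ∈ D, ψ g * c = φ g * e) :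
    ψ = φ ∨ ψ = φ * sg hD := by
  have := Fintype.ofFinite G
  by_contra hne
  rw [not_or] at hne
  have h1 : c • (ψ + ψ * sg hD) = e • (φ + φ * sg hD) := funext fun g => by
    show c * (ψ g + ψ g * sg hD g) = e * (φ g + φ g * sg hD g)
    by_cases hg : g ∈ D
    · rw [sg_of_mem hD hg]
      linear_combination 2 * h g hg
    · rw [sg_of_notMem hD hg]
      ring
  have h2 : classInner (c • (ψ + ψ * sg hD)) ψ = classInner (e • (φ + φ * sg hD)) ψ := by rw [h1]
  rw [classInner_smul_left, classInner_smul_left, classInner_add_left, classInner_add_left, classInner_irr_self hψ, classInner_irr_ne hφ hψ (Ne.symm hne.1),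
    classInner_irr_ne (isIrr_mul_sg hD hφ) hψ (Ne.symm hne.2), add_zero, mul_zero] at h2
  by_cases h3 : ψ * sg hD = ψ
  · rw [h3, classInner_irr_self hψ] at h2
    exact hc (by linear_combination h2 / 2)
  · rw [classInner_irr_ne (isIrr_mul_sg hD hψ) hψ h3] at h2
    exact hc (by linear_combination h2)

theorem oi_mul_sg [Finite G] {D : Subgroup G} (hD : D.index = 2) {φ : G → ℂ} (h : OI G φ) : OI G (φ * sg hD) :=
  ⟨isIrr_mul_sg hD h.1, by
    rw [charDegree_of_eq (χ := φ * sg hD) (n := charDegree φ) (by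
      rw [Pi.mul_apply, sg_of_mem hD (one_mem D), mul_one, deg_eq h.1])]
    exact h.2⟩

theorem ne_mul_sg [Finite G] {D : Subgroup G} (hD : D.index = 2) {φ : G → ℂ} (h : OI G φ) : φ ≠ φ * sg hD := fun e =>
  not_van hD h fun g hg => by
    have h1 := congrFun e g
    rw [Pi.mul_apply, sg_of_notMem hD hg] at h1
    linear_combination h1 / 2

section prod

variable [Finite G] [Finite H]

theorem card_prod (p : (G × H → ℂ) → Prop) : Nat.card {χ : G × H → ℂ // OI (G × H) χ ∧ p χ} =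
    Nat.card {x : (G → ℂ) × (H → ℂ) // (OI G x.1 ∧ OI H x.2) ∧ p fun y => x.1 y.1 * x.2 y.2} := by
  refine (Nat.card_congr (Equiv.ofBijective (fun x => ⟨fun y => x.1.1 y.1 * x.1.2 y.2,
    ⟨S0188.isIrr_outer x.2.1.1.1 x.2.1.2.1, deg_prod x.2.1.1.1 x.2.1.2.1 ▸ x.2.1.1.2.mul x.2.1.2.2⟩, x.2.2⟩)
    ⟨fun a b e => ?_, fun ⟨χ, h1, h2⟩ => ?_⟩)).symm
  · have h1 : ∀ g h, a.1.1 g * a.1.2 h = b.1.1 g * b.1.2 h := fun g h => congrFun (congrArg Subtype.val e) (g, h)
    exact Subtype.ext (Prod.ext (eq_of_prop a.2.1.1.1 b.2.1.1.1 a.2.1.2.one_ne fun g => h1 g 1)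
      (eq_of_prop a.2.1.2.1 b.2.1.2.1 a.2.1.1.one_ne fun g => by rw [mul_comm, mul_comm (b.1.2 g)]; exact h1 1 g))
  · obtain ⟨φ, ψ, hφ, hψ, rfl⟩ := (S0188.result χ).1 h1.1
    have h3 := h1.2
    rw [deg_prod hφ hψ, Nat.odd_mul] at h3
    exact ⟨⟨(φ, ψ), ⟨⟨hφ, h3.1⟩, hψ, h3.2⟩, h2⟩, rfl⟩

theorem k0_prod : k0 (G × H) = k0 G * k0 H := by
  rw [← k0_eq_of (p := fun _ => True) fun _ _ => trivial, card_prod, k0_def, k0_def, ← Nat.card_prod]
  exact Nat.card_congr ⟨fun x => (⟨x.1.1, x.2.1.1⟩, ⟨x.1.2, x.2.1.2⟩), fun x => ⟨(x.1.1, x.2.1), ⟨x.1.2, x.2.2⟩, trivial⟩,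
    fun _ => rfl, fun _ => rfl⟩

theorem f0_flip {β : MulAut (G × G)} (h : ∀ x, β x = (x.2, x.1)) : f0 β = k0 G := by
  rw [f0_def, card_prod, k0_def]
  refine Nat.card_congr (Equiv.ofBijective (fun x => ⟨x.1.1, x.2.1.1⟩) ⟨fun a b e => ?_, fun φ => ?_⟩)
  · have k : ∀ x : {x : (G → ℂ) × (G → ℂ) // (OI G x.1 ∧ OI G x.2) ∧
        ∀ y, x.1 (β y).1 * x.2 (β y).2 = x.1 y.1 * x.2 y.2}, x.1.2 = x.1.1 := fun x =>
      eq_of_prop x.2.1.2.1 x.2.1.1.1 x.2.1.1.one_ne (e := x.1.2 1) fun g => by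
        have h1 := x.2.2 (g, 1)
        rw [h] at h1
        rw [mul_comm]
        exact h1
    have h1 : a.1.1 = b.1.1 := congrArg Subtype.val e
    exact Subtype.ext (Prod.ext h1 ((k a).trans (h1.trans (k b).symm)))
  · exact ⟨⟨(φ.1, φ.1), ⟨φ.2, φ.2⟩, fun y => by rw [h]; exact mul_comm _ _⟩, rfl⟩

variable {D : Subgroup G} {E : Subgroup H} {N : Subgroup (G × H)}

omit [Finite G] [Finite H] in
theorem index_half (hD : D.index = 2) (hN : ∀ x, x ∈ N ↔ (x.1 ∈ D ↔ x.2 ∈ E)) : N.index = 2 := by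
  obtain ⟨a, ha⟩ := index_eq_two_iff.1 hD
  refine index_eq_two_iff.2 ⟨(a, 1), fun b => ?_⟩
  have h1 := ha b.1
  rw [hN, hN, Prod.fst_mul, Prod.snd_mul, mul_one]
  unfold Xor at h1 ⊢
  tauto

theorem not_vn_half (hD : D.index = 2) (hE : E.index = 2) (hN : ∀ x, x ∈ N ↔ (x.1 ∈ D ↔ x.2 ∈ E)) (χ : G × H → ℂ) :
    ¬ Vn N χ := by
  rintro ⟨h1, h2, h3⟩
  obtain ⟨φ, ψ, hφ, hψ, rfl⟩ := (S0188.result χ).1 h1
  have k1 : ¬ Odd (charDegree φ) := fun h => not_van hD ⟨hφ, h⟩ fun g hg =>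
    (mul_eq_zero.1 (h2 (g, 1) fun e => hg (((hN _).1 e).2 (one_mem E)))).resolve_right (isIrr_apply_one_ne_zero hψ)
  have k2 : ¬ Odd (charDegree ψ) := fun h => not_van hE ⟨hψ, h⟩ fun g hg =>
    (mul_eq_zero.1 (h2 (1, g) fun e => hg (((hN _).1 e).1 (one_mem D)))).resolve_left (isIrr_apply_one_ne_zero hφ)
  obtain ⟨a, ha⟩ := Nat.not_odd_iff_even.1 k1
  obtain ⟨b, hb⟩ := Nat.not_odd_iff_even.1 k2
  rw [deg_prod hφ hψ, ha, hb, show (a + a) * (b + b) = 4 * (a * b) by ring] at h3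
  omega

omit [Finite H] in
/-- index two, if no character of odd degree of the subgroup is moved -/
theorem card_two_of {L : Subgroup G} (hL : L.index = 2) (h0 : ∀ χ, ¬ Vn L χ) {p : (G → ℂ) → Prop} {q : (L → ℂ) → Prop}
    (h : ∀ χ θ, (∀ n : L, χ n = θ n) → (p χ ↔ q θ)) :
    Nat.card {χ // OI G χ ∧ p χ} = 2 * Nat.card {θ // OI L θ ∧ q θ} := by
  have := L.normal_of_index_eq_two hL
  have := Fintype.ofFinite G
  have := Fintype.ofFinite L
  have h1 := dc (L := L) (c := 1) (A' := fun χ => Odd (charDegree χ) ∧ p χ) (A := fun θ => Odd (charDegree θ) ∧ q θ)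
    fun χ θ hχ hθ hc => by
      rcases H614.restrict_two L hL hχ hθ hc with h2 | h2
      · have h3 : charDegree χ = charDegree θ := charDegree_of_eq ((h2 1).trans (deg_eq hθ))
        exact ⟨by rw [h3, h χ θ h2], fun _ => by rw [Nat.cast_one, one_mul]; exact h2 1⟩
      · have h3 : charDegree χ = 2 * charDegree θ := charDegree_of_eq (by rw [h2.1, deg_eq hθ]; norm_cast)
        have h4 : ¬ Odd (charDegree θ) := fun h5 => h0 χ ⟨hχ, h2.2, by have := Nat.odd_iff.1 h5; omega⟩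
        exact ⟨iff_of_false (fun h5 => not_van hL ⟨hχ, h5.1⟩ h2.2) fun h5 => h4 h5.1, fun h5 => absurd h5.1 h4⟩
  rw [one_pow, one_mul, hL] at h1
  simpa only [oi_def, and_assoc] using h1

theorem k0_half (hD : D.index = 2) (hE : E.index = 2) (hN : ∀ x, x ∈ N ↔ (x.1 ∈ D ↔ x.2 ∈ E)) :
    2 * k0 N = k0 G * k0 H := by
  rw [← k0_prod, ← k0_eq_of (p := fun _ => True) fun _ _ => trivial,
    ← k0_eq_of (G := G × H) (p := fun _ => True) fun _ _ => trivial,
    card_two_of (index_half hD hN) (not_vn_half hD hE hN) (q := fun _ => True) fun _ _ _ => Iff.rfl]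

theorem f0_half {N : Subgroup (G × G)} (hD : D.index = 2) (hN : ∀ x, x ∈ N ↔ (x.1 ∈ D ↔ x.2 ∈ D)) {β : MulAut N}
    (h : ∀ x, (β x : G × G) = (x.1.2, x.1.1)) : f0 β = k0 G := by
  refine Nat.eq_of_mul_eq_mul_left two_pos ?_
  have := finite_oi' (G := G)
  rw [f0_def, ← card_two_of (index_half hD hN) (not_vn_half hD hD hN) (p := fun χ => ∀ x : N, χ (x.1.2, x.1.1) = χ x)
    fun χ θ e => forall_congr' fun x => by rw [← h, e, e], card_prod, k0_def, two_mul, ← Nat.card_sum]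
  have k : ∀ (φ : G → ℂ) (x : N), φ x.1.2 * (φ * sg hD) x.1.1 = φ x.1.1 * (φ * sg hD) x.1.2 := fun φ x => by
    rw [Pi.mul_apply, Pi.mul_apply]
    by_cases hx : x.1.1 ∈ D
    · rw [sg_of_mem hD hx, sg_of_mem hD (((hN _).1 x.2).1 hx)]
      ring
    · rw [sg_of_notMem hD hx, sg_of_notMem hD fun e => hx (((hN _).1 x.2).2 e)]
      ring
  refine (Nat.card_congr (Equiv.ofBijective (Sum.elim (fun φ => ⟨(φ.1, φ.1), ⟨φ.2, φ.2⟩, fun x => mul_comm _ _⟩)
    fun φ => ⟨(φ.1, φ.1 * sg hD), ⟨φ.2, oi_mul_sg hD φ.2⟩, k φ.1⟩) ⟨?_, fun ⟨⟨φ, ψ⟩, h1, h2⟩ => ?_⟩)).symm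
  · rintro (a | a) (b | b) e
    · exact congrArg _ (Subtype.ext (congrArg (fun x => x.1.1) e))
    · exact absurd ((congrArg (fun x => x.1.1) e).symm.trans (congrArg (fun x => x.1.2) e)) (ne_mul_sg hD b.2)
    · exact absurd ((congrArg (fun x => x.1.1) e).trans (congrArg (fun x => x.1.2) e).symm) (ne_mul_sg hD a.2)
    · exact congrArg _ (Subtype.ext (congrArg (fun x => x.1.1) e))
  · rcases eq_or_sg hD h1.1.1 h1.2.1 h1.1.one_ne (e := ψ 1) fun g hg => by
      rw [mul_comm]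
      exact h2 ⟨(g, 1), (hN _).2 (iff_of_true hg (one_mem D))⟩ with e | e
    · exact ⟨Sum.inl ⟨φ, h1.1⟩, Subtype.ext (Prod.ext rfl e.symm)⟩
    · exact ⟨Sum.inr ⟨φ, h1.1⟩, Subtype.ext (Prod.ext rfl e.symm)⟩

end prod

/-- **a subgroup of odd index** -/
theorem m0_of_odd [Finite G] {n m : ℕ} (ih : IH n) (hS : SelfN G) (f : H →* G) (hf : Function.Injective f) (hm : Odd m)
    (hc : Nat.card G = m * Nat.card H) (hH : Nat.card H < n) (hk : k0 G = k0 H) : M0 G := by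
  have := two_prime
  have : Finite H := Finite.of_injective f hf
  have h1 : f.range.index = m := by
    have h2 := f.range.index_mul_card
    rw [hc, ← Nat.card_congr (MonoidHom.ofInjective hf).toEquiv] at h2
    exact Nat.eq_of_mul_eq_mul_right Nat.card_pos h2
  obtain ⟨S, hP⟩ := exists_sylow (P := ((default : Sylow 2 H) : Subgroup H).map f) ((default : Sylow 2 H).isPGroup'.map f)
    (by
      rw [index_map_of_injective _ hf, h1]
      exact (Nat.odd_iff.2 (Nat.two_dvd_ne_zero.1 (default : Sylow 2 H).not_dvd_index)).mul hm)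
  exact m0_of_sub ih f hf hH S ((hS S).trans (hP ▸ map_le_range _ _)) hk

/-- **the extension by an element which normalises the image** -/
theorem exists_ext [Finite G] (f : H →* G) (hf : Function.Injective f) {s : G} (hs : s ∉ f.range) (h2 : s * s ∈ f.range)
    {α : MulAut H} (hα : ∀ x, f (α x) = s * f x * s⁻¹) :
    ∃ W : Subgroup G, Nat.card W = 2 * Nat.card H ∧ k0 W = 2 * f0 α := by
  have k1 : ∀ g ∈ f.range, s * g * s⁻¹ ∈ f.range := by
    rintro _ ⟨x, rfl⟩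
    exact ⟨_, hα x⟩
  have k2 : ∀ g ∈ f.range, s⁻¹ * g * s ∈ f.range := by
    rintro _ ⟨x, rfl⟩
    obtain ⟨y, rfl⟩ := α.surjective x
    exact ⟨y, by rw [hα]; group⟩
  let W : Subgroup G :=
    { carrier := {g | g ∈ f.range ∨ g * s ∈ f.range}
      one_mem' := Or.inl (one_mem _)
      mul_mem' := by
        rintro a b (ha | ha) (hb | hb)
        · exact Or.inl (mul_mem ha hb)
        · exact Or.inr (mul_assoc a b s ▸ mul_mem ha hb)
        · exact Or.inr (by convert mul_mem ha (k2 _ hb) using 1; group)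
        · exact Or.inl (by convert mul_mem (mul_mem ha (k2 _ hb)) (inv_mem h2) using 1; group)
      inv_mem' := by
        rintro a (ha | ha)
        · exact Or.inl (inv_mem ha)
        · exact Or.inr (by convert mul_mem (k1 _ (inv_mem ha)) h2 using 1; group) }
  let j : H →* W := f.codRestrict W fun x => Or.inl ⟨x, rfl⟩
  have hj : Function.Injective j := fun _ _ e => hf (congrArg Subtype.val e)
  have hr : ∀ w : W, w ∈ j.range ↔ (w : G) ∈ f.range := fun w =>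
    ⟨fun ⟨x, e⟩ => ⟨x, congrArg Subtype.val e⟩, fun ⟨x, e⟩ => ⟨x, Subtype.ext e⟩⟩
  have hi : j.range.index = 2 := by
    refine index_eq_two_iff.2 ⟨⟨s, Or.inr h2⟩, fun b => ?_⟩
    rw [hr, hr]
    have h3 : ¬ ((b : G) * s ∈ f.range ∧ (b : G) ∈ f.range) := fun h => hs ((mul_mem_cancel_left h.2).1 h.1)
    have h4 : (b : G) ∈ f.range ∨ (b : G) * s ∈ f.range := b.2
    show Xor ((b : G) * s ∈ f.range) _
    unfold Xor
    tauto
  refine ⟨W, ?_, k0_index_two j hj hi (a := ⟨s, Or.inr h2⟩) (fun h => hs ((hr _).1 h)) fun x => Subtype.ext (hα x)⟩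
  rw [← j.range.index_mul_card, hi, Nat.card_congr (MonoidHom.ofInjective hj).toEquiv]

end Cfsg.Agent.MK.A
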