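import Cfsg.Agent.MK.A.Alt
import Cfsg.Agent.MK.A.Prod
import Cfsg.Agent.MK.S.Congr
import Cfsg.Agent.H799.SymSyl
import Cfsg.Agent.S2119

/-!
# MK, alternating groups: the equality for `S_n` and `A_n`, `7 ≤ n` (helper42)

* `m0_sym`, `m0_alt` : from Young subgroups and the wreath product `S_r ≀ 2` with the induction hypothesis;
* `smS_alt` : the small row of the simple group.
-/

set_option autoImplicit false
set_option maxHeartbeats 400000

namespace Cfsg.Agent.MK.A

open Cfsg Subgroup Equiv Cfsg.Agent.MK.T Cfsg.Agent.QTNorm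

theorem odd_choose : ∀ k l : ℕ, l < 2 ^ k → Odd ((2 ^ k + l).choose l)
  | 0, l, h => by
    obtain rfl : l = 0 := by omega
    simp
  | k + 1, l, h => by
    have := two_prime
    have h1 := Choose.choose_modEq_choose_mod_mul_choose_div_nat (n := 2 ^ (k + 1) + l) (k := l) (p := 2)
    rw [show (2 ^ (k + 1) + l) % 2 = l % 2 by rw [pow_succ]; omega,
      show (2 ^ (k + 1) + l) / 2 = 2 ^ k + l / 2 by rw [pow_succ]; omega, Nat.choose_self, one_mul] at h1
    exact Nat.odd_iff.2 (Eq.trans h1 (Nat.odd_iff.1 (odd_choose k (l / 2) (by rw [pow_succ] at h; omega))))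

theorem three_le_choose {k l : ℕ} (h0 : l ≠ 0) (h : l < 2 ^ k) : 3 ≤ (2 ^ k + l).choose l := by
  have h1 := Nat.odd_iff.1 (odd_choose k l h)
  have h2 : (2 ^ k + l).choose l ≠ 1 := fun e => by
    rcases Nat.choose_eq_one_iff.1 e with h3 | h3 <;> omega
  omega

theorem choose_two {k : ℕ} (hk : k ≠ 0) : ∃ m, Odd m ∧ 3 ≤ m ∧ (2 ^ k + 2 ^ k).choose (2 ^ k) = 2 * m := by
  have h1 : 1 < 2 ^ k := Nat.one_lt_two_pow hk
  refine ⟨_, odd_choose k (2 ^ k - 1) (by omega), three_le_choose (by omega) (by omega), ?_⟩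
  obtain ⟨l, hl⟩ : ∃ l, 2 ^ k = l + 1 := ⟨2 ^ k - 1, by omega⟩
  rw [hl, Nat.add_sub_cancel, ← add_assoc, Nat.choose_succ_succ', two_mul, Nat.choose_symm_add]

variable {β γ : Type} [Fintype β] [DecidableEq β] [Fintype γ] [DecidableEq γ]

theorem selfN_perm : SelfN (Perm β) := fun P => (H799.SymSyl.normalizer_perm P).le

theorem selfN_alt (h : 6 ≤ Fintype.card β) : SelfN (alternatingGroup β) := fun P => (H799.SymSyl.normalizer_alt h P).le

theorem index_alt' (h : 2 ≤ Fintype.card β) : (alternatingGroup β).index = 2 :=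
  have : Nontrivial β := Fintype.one_lt_card_iff_nontrivial.1 h
  alternatingGroup.index_eq_two

theorem card_alt' (h : 2 ≤ Fintype.card β) : Nat.card (Perm β) = 2 * Nat.card (alternatingGroup β) := by
  rw [← index_alt' h, index_mul_card]

omit [DecidableEq β] [DecidableEq γ] in
theorem card_young : Nat.card (Perm (β ⊕ γ)) =
    (Fintype.card β + Fintype.card γ).choose (Fintype.card γ) * Nat.card (Perm β × Perm γ) := by
  rw [Nat.card_prod, Nat.card_perm, Nat.card_perm, Nat.card_perm, Nat.card_sum, ← mul_assoc, Nat.card_eq_fintype_card,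
    Nat.card_eq_fintype_card, Nat.add_choose_mul_factorial_mul_factorial]

theorem k0_alt_fin : k0 (alternatingGroup β) = k0 (alternatingGroup (Fin (Fintype.card β))) :=
  k0_congr (Fintype.equivFin β).altCongrHom

variable (β γ) in
/-- the even elements of the Young subgroup -/
def Hf : Subgroup (Perm β × Perm γ) := (alternatingGroup (β ⊕ γ)).comap (Perm.sumCongrHom β γ)

variable (β γ) in
/-- their embedding -/
def jf : Hf β γ →* alternatingGroup (β ⊕ γ) := (Perm.sumCongrHom β γ).subgroupComap _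

theorem jf_coe (x : Hf β γ) : (jf β γ x : Perm (β ⊕ γ)) = Perm.sumCongr x.1.1 x.1.2 := rfl

theorem jf_inj : Function.Injective (jf β γ) := fun _ _ h =>
  Subtype.ext (Perm.sumCongrHom_injective (congrArg Subtype.val h))

theorem mem_Hf (x : Perm β × Perm γ) : x ∈ Hf β γ ↔ (x.1 ∈ alternatingGroup β ↔ x.2 ∈ alternatingGroup γ) := by
  show Perm.sign (Perm.sumCongr x.1 x.2) = 1 ↔ (Perm.sign x.1 = 1 ↔ Perm.sign x.2 = 1)
  rw [Perm.sign_sumCongr]
  rcases Int.units_eq_one_or (Perm.sign x.1) with h | h <;> rcases Int.units_eq_one_or (Perm.sign x.2) with h' | h' <;>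
    rw [h, h'] <;> decide

theorem card_Hf (h : 2 ≤ Fintype.card β) : Nat.card (Perm β × Perm γ) = 2 * Nat.card (Hf β γ) := by
  rw [← index_half (index_alt' h) (mem_Hf (γ := γ)), index_mul_card]

section gen

variable {k : ℕ} (hβ : Fintype.card β = 2 ^ k) (h0 : Fintype.card γ ≠ 0) (hγ : Fintype.card γ < 2 ^ k)
  (ih : IH (Nat.card (alternatingGroup (β ⊕ γ))))

include hβ h0 hγ ih

theorem m0_sym_gen : M0 (Perm (β ⊕ γ)) := by
  have h1 := card_young (β := β) (γ := γ)
  rw [hβ] at h1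
  refine m0_of_odd ih selfN_perm _ Perm.sumCongrHom_injective (odd_choose _ _ hγ) h1 ?_ ?_
  · have h2 := three_le_choose h0 hγ
    have h3 : 0 < Nat.card (Perm β × Perm γ) := Nat.card_pos
    rw [card_alt' (by rw [Fintype.card_sum]; omega)] at h1
    nlinarith
  · rw [k0_prod]
    exact (ko_step hγ (by rw [Fintype.card_sum, hβ])).trans (congrArg (· * _) (ko_pow hβ).symm)

theorem m0_alt_of (h6 : 6 ≤ Fintype.card (β ⊕ γ)) (h : k0 (alternatingGroup (β ⊕ γ)) = k0 (Hf β γ)) :
    M0 (alternatingGroup (β ⊕ γ)) := by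
  have h1 := card_young (β := β) (γ := γ)
  rw [hβ, card_alt' (by omega), card_Hf (by omega), mul_left_comm] at h1
  have h2 := Nat.eq_of_mul_eq_mul_left two_pos h1
  refine m0_of_odd ih (selfN_alt h6) _ jf_inj (odd_choose _ _ hγ) h2 ?_ h
  have h3 := three_le_choose h0 hγ
  have h4 : 0 < Nat.card (Hf β γ) := Nat.card_pos
  nlinarith

theorem m0_alt_gen (h2 : 2 ≤ Fintype.card γ) (h6 : 6 ≤ Fintype.card (β ⊕ γ)) : M0 (alternatingGroup (β ⊕ γ)) := by
  refine m0_alt_of hβ h0 hγ ih h6 (Nat.eq_of_mul_eq_mul_left two_pos ?_)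
  rw [k0_half (index_alt' (by omega)) (index_alt' h2) mem_Hf, k0_alt_fin, Fintype.card_sum, hβ]
  refine (ko_alt_gen h2 hγ).trans ((ko_step hγ (Fintype.card_fin _)).trans ?_)
  exact congrArg (· * _) (ko_pow hβ).symm

end gen

theorem m0_alt_one {k : ℕ} (hβ : Fintype.card β = 2 ^ (k + 2)) (h1 : Fintype.card γ = 1)
    (ih : IH (Nat.card (alternatingGroup (β ⊕ γ)))) (h6 : 6 ≤ Fintype.card (β ⊕ γ)) :
    M0 (alternatingGroup (β ⊕ γ)) := by
  have h2 : 1 < 2 ^ (k + 2) := Nat.one_lt_two_pow (by omega)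
  have : Subsingleton γ := Fintype.card_le_one_iff_subsingleton.1 h1.le
  refine m0_alt_of hβ (by omega) (by omega) ih h6 ?_
  let e : Hf β γ ≃* alternatingGroup β :=
    { toFun := fun x => ⟨x.1.1, ((mem_Hf _).1 x.2).2 (Subsingleton.elim 1 x.1.2 ▸ one_mem _)⟩
      invFun := fun x => ⟨(x.1, 1), (mem_Hf _).2 (iff_of_true x.2 (one_mem _))⟩
      left_inv := fun x => Subtype.ext (Prod.ext rfl (Subsingleton.elim _ _))
      right_inv := fun _ => rfl
      map_mul' := fun _ _ => rfl }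
  rw [k0_congr e, k0_alt_fin, k0_alt_fin (β := β)]
  exact (ko_alt_pow (ε := 1) le_rfl (by rw [Fintype.card_sum, hβ, h1])).trans (ko_alt_pow (ε := 0) zero_le_one hβ).symm

section pw

variable (β) in
/-- the flip -/
def fl : Perm (β ⊕ β) := Equiv.sumComm β β

omit [Fintype β] [DecidableEq β] in
theorem fl_sq : fl β * fl β = 1 := by
  ext x
  cases x <;> rfl

omit [Fintype β] [DecidableEq β] in
theorem fl_conj (a b : Perm β) : Perm.sumCongr b a = fl β * Perm.sumCongr a b * (fl β)⁻¹ := by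
  ext x
  cases x <;> rfl

omit [Fintype β] [DecidableEq β] in
theorem fl_ne [Nonempty β] (a b : Perm β) : Perm.sumCongr a b ≠ fl β := fun h =>
  Sum.inl_ne_inr (Equiv.congr_fun h (Sum.inl (Classical.arbitrary β)))

theorem fl_mem (h : Even (Fintype.card β)) : fl β ∈ alternatingGroup (β ⊕ β) := by
  have : IsEmpty (Function.fixedPoints (fl β)) := ⟨by
    rintro ⟨x | x, hx⟩
    · exact Sum.inr_ne_inl hx
    · exact Sum.inl_ne_inr hx⟩
  rw [Perm.mem_alternatingGroup, Perm.sign_of_pow_two_eq_one (by rw [pow_two, fl_sq]), Fintype.card_sum,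
    Fintype.card_eq_zero (α := Function.fixedPoints (fl β)), Nat.sub_zero, ← two_mul, Nat.mul_div_cancel_left _ two_pos, h.neg_one_pow]

variable {k : ℕ} (hβ : Fintype.card β = 2 ^ (k + 1)) (ih : IH (Nat.card (alternatingGroup (β ⊕ β))))

include hβ ih

theorem m0_sym_pow : M0 (Perm (β ⊕ β)) := by
  have h0 : 1 < 2 ^ (k + 1) := Nat.one_lt_two_pow (by omega)
  have : Nonempty β := Fintype.card_pos_iff.1 (by omega)
  obtain ⟨W, h1, h2⟩ := exists_ext (Perm.sumCongrHom β β) Perm.sumCongrHom_injective (s := fl β)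
    (fun ⟨x, hx⟩ => fl_ne _ _ hx) (fl_sq (β := β) ▸ one_mem _) (α := MulEquiv.prodComm) fun x => fl_conj _ _
  obtain ⟨m, h3, h4, h5⟩ := choose_two (k := k + 1) (by omega)
  have h6 := card_young (β := β) (γ := β)
  rw [hβ, h5, mul_comm 2, mul_assoc, ← h1] at h6
  refine m0_of_odd ih selfN_perm W.subtype W.subtype_injective h3 h6 ?_ ?_
  · have h7 : 0 < Nat.card W := Nat.card_pos
    rw [card_alt' (by rw [Fintype.card_sum]; omega)] at h6
    nlinarith
  · rw [h2, f0_flip fun _ => rfl]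
    refine (ko_pow (k := k + 2) (by rw [Fintype.card_sum, hβ]; ring)).trans ?_
    rw [show k0 (Perm β) = 2 ^ (k + 1) from ko_pow hβ]
    ring

theorem m0_alt_pow (h6 : 6 ≤ Fintype.card (β ⊕ β)) : M0 (alternatingGroup (β ⊕ β)) := by
  have h0 : 1 < 2 ^ (k + 1) := Nat.one_lt_two_pow (by omega)
  have : Nonempty β := Fintype.card_pos_iff.1 (by omega)
  have he : Even (Fintype.card β) := by
    rw [hβ, pow_succ]
    exact (even_two).mul_left _
  let α : MulAut (Hf β β) := res (Hf β β) MulEquiv.prodComm fun x => by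
    rw [mem_Hf, mem_Hf]
    exact Iff.comm
  obtain ⟨W, h1, h2⟩ := exists_ext (jf β β) jf_inj (s := ⟨fl β, fl_mem he⟩)
    (fun ⟨x, hx⟩ => fl_ne _ _ (congrArg Subtype.val hx)) ⟨1, Subtype.ext (by rw [map_one]; exact fl_sq.symm)⟩ (α := α)
    fun x => Subtype.ext (fl_conj _ _)
  obtain ⟨m, h3, h4, h5⟩ := choose_two (k := k + 1) (by omega)
  have h7 := card_young (β := β) (γ := β)
  rw [hβ, h5, card_alt' (by omega), card_Hf (by omega), ← h1, mul_assoc] at h7
  have h8 := Nat.eq_of_mul_eq_mul_left two_pos h7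
  refine m0_of_odd ih (selfN_alt h6) W.subtype W.subtype_injective h3 h8 ?_ ?_
  · have h9 : 0 < Nat.card W := Nat.card_pos
    nlinarith
  · rw [h2, f0_half (index_alt' (by omega)) mem_Hf fun _ => rfl, k0_alt_fin]
    refine (ko_alt_pow (k := k) (ε := 0) zero_le_one (by rw [Fintype.card_sum, hβ]; ring)).trans ?_
    rw [show k0 (Perm β) = 2 ^ (k + 1) from ko_pow hβ]
    ring

end pw

/-- **the equality for `S_n` and `A_n`** -/
theorem m0_both {n : ℕ} (hn : 6 ≤ n) (ih : IH (Nat.card (alternatingGroup (Fin n)))) :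
    M0 (Perm (Fin n)) ∧ M0 (alternatingGroup (Fin n)) := by
  have key : ∀ a b : ℕ, n = a + b → (IH (Nat.card (alternatingGroup (Fin a ⊕ Fin b))) → 6 ≤ Fintype.card (Fin a ⊕ Fin b) →
      M0 (Perm (Fin a ⊕ Fin b)) ∧ M0 (alternatingGroup (Fin a ⊕ Fin b))) →
      M0 (Perm (Fin n)) ∧ M0 (alternatingGroup (Fin n)) := by
    rintro a b rfl h
    have h1 := h (Nat.card_congr (finSumFinEquiv (m := a) (n := b)).altCongrHom.toEquiv ▸ ih)
      (by rw [Fintype.card_sum, Fintype.card_fin, Fintype.card_fin]; exact hn)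
    exact ⟨h1.1.congr finSumFinEquiv.permCongrHom, h1.2.congr finSumFinEquiv.altCongrHom⟩
  obtain ⟨k, l, h1, h2⟩ := exists_split (n := n) (by omega)
  obtain ⟨k, rfl⟩ : ∃ j, k = j + 2 := ⟨k - 2, by
    rcases k with _ | _ | k <;> omega⟩
  by_cases h0 : l = 0
  · exact key (2 ^ (k + 1)) (2 ^ (k + 1)) (by rw [h2, h0]; ring) fun ih h6 =>
      ⟨m0_sym_pow (Fintype.card_fin _) ih, m0_alt_pow (Fintype.card_fin _) ih h6⟩
  refine key _ _ h2 fun ih h6 => ⟨m0_sym_gen (Fintype.card_fin _) (by rwa [Fintype.card_fin])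
    (by rwa [Fintype.card_fin]) ih, ?_⟩
  by_cases h3 : l = 1
  · exact m0_alt_one (Fintype.card_fin _) (by rwa [Fintype.card_fin]) ih h6
  · exact m0_alt_gen (Fintype.card_fin _) (by rwa [Fintype.card_fin]) (by rwa [Fintype.card_fin]) ih
      (by rw [Fintype.card_fin]; omega) h6

theorem index_inn {n : ℕ} (hn : 4 ≤ n) (h6 : n ≠ 6) :
    (MulAut.conj : alternatingGroup (Fin n) →* MulAut (alternatingGroup (Fin n))).range.index = 2 := by
  have hZ : center (alternatingGroup (Fin n)) = ⊥ := alternatingGroup.center_eq_bot (by simpa using hn)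
  have h1 := (MulAut.conj : alternatingGroup (Fin n) →* MulAut (alternatingGroup (Fin n))).range.index_mul_card
  rw [← Nat.card_eq_of_bijective _ (S2119.result n hn h6), card_alt' (by rw [Fintype.card_fin]; omega),
    ← Nat.card_congr (MonoidHom.ofInjective (conj_inj hZ)).toEquiv] at h1
  exact Nat.eq_of_mul_eq_mul_right Nat.card_pos h1

/-- **the small row of `A_n`, `7 ≤ n`** -/
theorem smS_alt {n : ℕ} (hn : 7 ≤ n) : S.SmS (alternatingGroup (Fin n)) := fun ih =>
  have h := m0_both (by omega) ih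
  sm_of_two (alternatingGroup.center_eq_bot (by simpa using (by omega : 4 ≤ n))) (index_inn (by omega) (by omega)) ih h.2
    (h.1.congr (MulEquiv.ofBijective _ (S2119.result n (by omega) (by omega))))

end Cfsg.Agent.MK.A
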