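import Cfsg.Agent.MK.A.Cov
import Cfsg.Agent.MK.S.Defs
import Cfsg.Agent.LFourA.AltPsiAut
import Cfsg.Agent.S2119

/-!
# MK, alternating groups: the triple covers of `A₆` and `A₇` (helper42)

* `smC_seven : SmC A₇`, `smC_six : SmC A₆`.
-/

set_option autoImplicit false
set_option maxHeartbeats 400000
set_option maxRecDepth 100000

namespace Cfsg.Agent.MK.A

open Cfsg Subgroup Equiv Cfsg.Agent.MK.T

theorem exists_syl {S : Type} [Group S] {u k : S} (h4 : u ^ 4 = 1) (h2 : k ^ 2 = 1) (hi : k * u * k⁻¹ = u⁻¹) :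
    ∃ T : Sylow 2 S, u ∈ (T : Subgroup S) ∧ k ∈ (T : Subgroup S) := by
  have := two_prime
  have k1 : ∀ {x : S} {n : ℕ}, x ^ 2 ^ n = 1 → IsPGroup 2 (zpowers x) := fun {x n} h => by
    obtain ⟨j, -, hj⟩ := (Nat.dvd_prime_pow Nat.prime_two).1 (orderOf_dvd_of_pow_eq_one h)
    exact IsPGroup.of_card (by rw [Nat.card_zpowers, hj])
  have : Finite (zpowers u) := (isOfFinOrder_iff_pow_eq_one.2 ⟨4, by norm_num, h4⟩).finite_zpowers
  obtain ⟨T, hT⟩ := (IsPGroup.to_sup_of_normal_left' (k1 (n := 2) h4) (k1 (n := 1) h2)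
    (zpowers_le.2 (mem_normalizer_fintype (by
      rintro _ ⟨n, rfl⟩
      show k * u ^ n * k⁻¹ ∈ zpowers u
      rw [← conj_zpow, hi]
      exact zpow_mem (inv_mem (mem_zpowers u)) n)))).exists_le_sylow
  exact ⟨T, hT (mem_sup_left (mem_zpowers u)), hT (mem_sup_right (mem_zpowers k))⟩

theorem perm_cases {n : ℕ} {τ : Perm (Fin n)} (hτ : Perm.sign τ = -1) (σ : Perm (Fin n)) :
    ∃ s : alternatingGroup (Fin n), (MulAut.conjNormal σ : MulAut (alternatingGroup (Fin n))) = MulAut.conj s ∨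
      (MulAut.conjNormal σ : MulAut (alternatingGroup (Fin n))) = MulAut.conj s * MulAut.conjNormal τ := by
  rcases Int.units_eq_one_or (Perm.sign σ) with h | h
  · exact ⟨⟨σ, h⟩, Or.inl (MulAut.conjNormal_val (h := ⟨σ, h⟩))⟩
  · refine ⟨⟨σ * τ⁻¹, ?_⟩, Or.inr ?_⟩
    · rw [Perm.mem_alternatingGroup, map_mul, map_inv, h, hτ, mul_inv_cancel]
    · rw [← MulAut.conjNormal_val, ← map_mul, inv_mul_cancel_right]

theorem not_mem_zpowers {n : ℕ} {a b : alternatingGroup (Fin n)} {i : Fin n} (ha : (a : Perm (Fin n)) i = i)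
    (hb : (b : Perm (Fin n)) i ≠ i) : b ∉ zpowers a := by
  rintro ⟨k, rfl⟩
  exact hb (Perm.zpow_apply_eq_self_of_apply_eq_self ha k)

theorem mem_four {S : Type} [Group S] {u s : S} (h : s = 1 ∨ s = u ∨ s = u ^ 2 ∨ s = u ^ 3) : s ∈ zpowers u := by
  rcases h with rfl | rfl | rfl | rfl
  · exact one_mem _
  · exact mem_zpowers _
  · exact pow_mem (mem_zpowers _) _
  · exact pow_mem (mem_zpowers _) _

/-! ### `A₇` -/

/-- an element of order four -/
def u7 : alternatingGroup (Fin 7) := ⟨swap 0 1 * swap 1 2 * (swap 2 3 * swap 4 5), Perm.mem_alternatingGroup.2 (by decide)⟩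
/-- an involution -/
def k7 : alternatingGroup (Fin 7) := ⟨swap 0 2 * swap 4 5, Perm.mem_alternatingGroup.2 (by decide)⟩
/-- a three-cycle -/
def a7 : alternatingGroup (Fin 7) := ⟨swap 0 1 * swap 1 2, Perm.mem_alternatingGroup.2 (by decide)⟩
/-- a three-cycle -/
def b7 : alternatingGroup (Fin 7) := ⟨swap 3 4 * swap 4 5, Perm.mem_alternatingGroup.2 (by decide)⟩

theorem cent7 : ∀ σ : Perm (Fin 7), σ * u7.1 = u7.1 * σ → Perm.sign σ = 1 →
    σ = 1 ∨ σ = u7.1 ∨ σ = u7.1 ^ 2 ∨ σ = u7.1 ^ 3 := by decide +kernel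

theorem card7 : Nat.card (alternatingGroup (Fin 7)) = 2520 := by
  rw [nat_card_alternatingGroup, Nat.card_eq_fintype_card, Fintype.card_fin]
  decide

/-- **`3.A₇`** -/
theorem smC_seven : S.SmC (alternatingGroup (Fin 7)) := by
  intro X _ _ φ hφ hk h3 hp _
  have h4 : u7 ^ 4 = 1 := by decide +kernel
  have hi : k7 * u7 * k7⁻¹ = u7⁻¹ := by decide +kernel
  obtain ⟨T, h5, h6⟩ := exists_syl h4 (by decide +kernel) hi
  obtain ⟨x, y, c, hx, hy, hc, h7, h8⟩ := exists_comm φ hφ hk h3 hp (a := a7) (b := b7) (by decide +kernel)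
    (by decide +kernel) (by decide +kernel) (by decide +kernel) (not_mem_zpowers (i := 3) (by decide) (by decide))
    (by rw [card7]; decide)
  refine sm_four φ hφ hk h3 T h5 h6 h4 (by decide +kernel) hi (fun s hs => mem_four ?_)
    (inn_of_inv φ hφ hk hp (β := MulAut.conjNormal (swap 1 2 : Perm (Fin 7))) (fun γ => ?_) (i := 2) (j := 1) ?_ ?_ hc h8
      fun h => h7 (mul_eq_left.1 ((pow_two c).symm.trans h)))
  · simpa only [Subtype.ext_iff, Subgroup.coe_one, Subgroup.coe_pow] using cent7 s (congrArg Subtype.val hs) s.2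
  · obtain ⟨σ, rfl⟩ := (S2119.result 7 (by norm_num) (by norm_num)).2 γ
    exact perm_cases (by decide) σ
  · rw [hx]
    exact Subtype.ext ((MulAut.conjNormal_apply _ _).trans (by decide +kernel))
  · rw [hy]
    exact Subtype.ext ((MulAut.conjNormal_apply _ _).trans (by decide +kernel))

/-! ### `A₆` -/

open Cfsg.Agent.Lib.AltCarmichael Cfsg.Agent.LFourA.AltPsiAut

/-- the generators -/
def c6 : ℕ → A6
  | 0 => ⟨cyc 4 0, cyc_mem 4 0 (by norm_num)⟩
  | 1 => ⟨cyc 4 1, cyc_mem 4 1 (by norm_num)⟩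
  | 2 => ⟨cyc 4 2, cyc_mem 4 2 (by norm_num)⟩
  | _ => ⟨cyc 4 3, cyc_mem 4 3 (by norm_num)⟩

/-- their images -/
def x6 : ℕ → A6
  | 0 => c6 3 * c6 2 * c6 0 * c6 1
  | 1 => c6 0 * c6 3 * c6 1 * c6 2
  | 2 => c6 1 * c6 0 * c6 2 * c6 3
  | _ => c6 2 * c6 1 * c6 3 * c6 0

/-- an element of order four -/
def u6 : A6 := c6 0 * c6 2 * c6 1 * c6 3 * c6 2 * c6 0
/-- an involution -/
def k6 : A6 := c6 0 * c6 2 * c6 2 * c6 0
/-- a three-cycle -/
def a6 : A6 := c6 0 * c6 1 * c6 2 * c6 0 * c6 1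
/-- an odd permutation -/
def t6 : Perm (Fin 6) := swap 2 3 * swap 3 4 * swap 4 5

theorem rel_x6 : Rel 4 x6 where
  cube := by decide +kernel
  sq := by decide +kernel

theorem ext6 {α β : MulAut A6} (h : ∀ i < 4, α (c6 i) = β (c6 i)) : α = β := by
  have h1 : gen 4 (cyc 4) ≤ (MonoidHom.eqLocus α.toMonoidHom β.toMonoidHom).map (alternatingGroup (Fin 6)).subtype := by
    rw [gen_def, closure_le]
    rintro _ ⟨i, hi, rfl⟩
    refine ⟨c6 i, h i hi, ?_⟩
    interval_cases i <;> rfl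
  rw [gen_cyc 4 (by norm_num)] at h1
  refine MulEquiv.ext fun x => ?_
  obtain ⟨y, hy, e⟩ := h1 x.2
  exact (show y = x from Subtype.ext e) ▸ hy

theorem exists_mu : ∃ μ : MulAut A6, ∀ i < 4, μ (c6 i) = x6 i := by
  obtain ⟨f, hf⟩ := Lib.AltCarmichael.exists_hom (m := 4) (by norm_num) rel_x6
  have h1 : ∀ i < 4, f (c6 i) = x6 i := fun i hi => by
    rw [← hf i hi]
    interval_cases i <;> rfl
  have hs : IsSimpleGroup (alternatingGroup (Fin 6)) := alternatingGroup.isSimpleGroup (by simp)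
  have h2 : Function.Injective f := by
    rw [← MonoidHom.ker_eq_bot_iff]
    refine (hs.eq_bot_or_eq_top_of_normal f.ker inferInstance).resolve_right fun h => ?_
    have h3 : f (c6 0) = 1 := h.ge (mem_top (c6 0))
    rw [h1 0 (by norm_num)] at h3
    exact absurd h3 (by decide +kernel)
  exact ⟨MulEquiv.ofBijective f (Finite.injective_iff_bijective.1 h2), h1⟩

theorem cent6 : ∀ σ : Perm (Fin 6), σ * u6.1 ^ 2 = u6.1 ^ 2 * σ → Perm.sign σ = 1 →
    ∃ (i : Fin 4) (j : Fin 2), σ = u6.1 ^ (i : ℕ) * k6.1 ^ (j : ℕ) := by decide +kernel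

theorem cent6' {s : A6} (h : s * u6 ^ 2 = u6 ^ 2 * s) : ∃ (i : Fin 4) (j : Fin 2), s = u6 ^ (i : ℕ) * k6 ^ (j : ℕ) := by
  have h1 := congrArg Subtype.val h
  rw [Subgroup.coe_mul, Subgroup.coe_mul, Subgroup.coe_pow] at h1
  obtain ⟨i, j, e⟩ := cent6 s h1 s.2
  exact ⟨i, j, Subtype.ext (by rw [e, Subgroup.coe_mul, Subgroup.coe_pow, Subgroup.coe_pow])⟩

theorem card6' : Nat.card A6 = 360 := by
  rw [nat_card_alternatingGroup, Nat.card_eq_fintype_card, Fintype.card_fin]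
  decide

theorem exists_syl6 : ∃ T : Sylow 2 A6, (T : Subgroup A6) = centralizer {u6 ^ 2} := by
  have h1 : Nat.card (centralizer ({u6 ^ 2} : Set A6)) = 2 ^ 3 := by
    have h2 : ∀ p : Fin 4 × Fin 2, u6 ^ (p.1 : ℕ) * k6 ^ (p.2 : ℕ) * u6 ^ 2 = u6 ^ 2 * (u6 ^ (p.1 : ℕ) * k6 ^ (p.2 : ℕ)) := by
      decide +kernel
    have h3 : ∀ p q : Fin 4 × Fin 2, u6 ^ (p.1 : ℕ) * k6 ^ (p.2 : ℕ) = u6 ^ (q.1 : ℕ) * k6 ^ (q.2 : ℕ) → p = q := by
      decide +kernel
    rw [← Nat.card_eq_of_bijective (fun p : Fin 4 × Fin 2 => (⟨_, mem_centralizer_singleton_iff.2 (h2 p)⟩ :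
      centralizer ({u6 ^ 2} : Set A6))) ⟨fun p q e => h3 p q (congrArg Subtype.val e), fun s => ?_⟩]
    · simp
    · obtain ⟨i, j, e⟩ := cent6' (mem_centralizer_singleton_iff.1 s.2)
      exact ⟨(i, j), Subtype.ext e.symm⟩
  refine exists_sylow (IsPGroup.of_card h1) ?_
  have h2 := (centralizer ({u6 ^ 2} : Set A6)).index_mul_card
  rw [h1, card6'] at h2
  rw [show (centralizer ({u6 ^ 2} : Set A6)).index = 45 by omega]
  decide

/-- **`3.A₆`** -/
theorem smC_six : S.SmC (alternatingGroup (Fin 6)) := by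
  intro X _ _ φ hφ hk h3 hp _
  obtain ⟨μ, hμ⟩ := exists_mu
  have m0 := hμ 0 (by norm_num)
  have m1 := hμ 1 (by norm_num)
  have m2 := hμ 2 (by norm_num)
  have m3 := hμ 3 (by norm_num)
  have mu : μ u6 = u6⁻¹ := by
    rw [show u6 = c6 0 * c6 2 * c6 1 * c6 3 * c6 2 * c6 0 from rfl]
    simp only [map_mul, m0, m1, m2, m3]
    decide +kernel
  have mk : μ k6 = u6 * k6 := by
    conv_lhs => rw [show k6 = c6 0 * c6 2 * c6 2 * c6 0 from rfl]
    simp only [map_mul, m0, m2]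
    decide +kernel
  have ma : μ a6 = x6 0 * x6 1 * x6 2 * x6 0 * x6 1 := by
    rw [show a6 = c6 0 * c6 1 * c6 2 * c6 0 * c6 1 from rfl]
    simp only [map_mul, m0, m1, m2]
  have mm : μ * μ = MulAut.conj (u6 ^ 2) := ext6 fun i hi => by
    rw [MulAut.mul_apply, hμ i hi, MulAut.conj_apply]
    interval_cases i
    · rw [show x6 0 = c6 3 * c6 2 * c6 0 * c6 1 from rfl]
      simp only [map_mul, m0, m1, m2, m3]
      decide +kernel
    · rw [show x6 1 = c6 0 * c6 3 * c6 1 * c6 2 from rfl]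
      simp only [map_mul, m0, m1, m2, m3]
      decide +kernel
    · rw [show x6 2 = c6 1 * c6 0 * c6 2 * c6 3 from rfl]
      simp only [map_mul, m0, m1, m2, m3]
      decide +kernel
    · rw [show x6 3 = c6 2 * c6 1 * c6 3 * c6 0 from rfl]
      simp only [map_mul, m0, m1, m2, m3]
      decide +kernel
  have hN : μ ∉ NE := fun h => by
    have h2 := (mem_NE_iff.1 h).card_support
    rw [show u3 = a6 by decide +kernel, ma] at h2
    exact absurd h2 (by decide +kernel)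
  have h4 : u6 ^ 4 = 1 := by decide +kernel
  have h5 : ∀ s, μ (μ s) = u6 ^ 2 * s * (u6 ^ 2)⁻¹ := MulEquiv.congr_fun mm
  obtain ⟨T, hT⟩ := exists_syl6
  obtain ⟨x, y, c, hx, hy, hc, h7, h8⟩ := exists_comm φ hφ hk h3 hp (a := a6) (b := c6 3) (by decide +kernel)
    (by decide +kernel) (by decide +kernel) (by decide +kernel)
    (not_mem_zpowers (i := 3) (by decide +kernel) (by decide +kernel)) (by rw [card6']; decide)
  have key : ∀ (α : MulAut X) (s : A6) (ν : MulAut A6) (i j k l : ℕ), (∀ z ∈ center X, α z = z) →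
      (∀ g, φ (α g) = MulAut.conj s (ν (φ g))) → ν a6 = a6 ^ i * c6 3 ^ j → ν (c6 3) = a6 ^ k * c6 3 ^ l →
      c ^ (k * j + 1) = c ^ (i * l) := fun α s ν i j k l h1 h2 e1 e2 => by
    obtain ⟨g, rfl⟩ := hφ s
    have k2 : ∀ w, φ (((MulAut.conj g)⁻¹ * α) w) = ν (φ w) := fun w => by
      rw [MulAut.mul_apply, MulAut.conj_inv_apply, map_mul, map_mul, map_inv, h2, MulAut.conj_apply]
      group
    refine det_eq φ hk hc h8 (α := (MulAut.conj g)⁻¹ * α) ?_ (by rw [k2, hx, hy, e1]) (by rw [k2, hx, hy, e2])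
    rw [MulAut.mul_apply, h1 c hc, MulAut.conj_inv_apply, mul_assoc, ← mem_center_iff.1 hc g, inv_mul_cancel_left]
  have cn : ∀ α ∈ NE, ∃ σ : Perm (Fin 6), α = MulAut.conjNormal σ := fun α hα => by
    obtain ⟨σ, hσ⟩ := exists_perm hα
    exact ⟨σ, MulEquiv.ext fun w => Subtype.ext ((hσ w).trans (MulAut.conjNormal_apply _ _).symm)⟩
  refine sm_four_out φ hφ hk h3 T (u := u6) (k := k6) (hT ▸ mem_centralizer_singleton_iff.2 (by decide +kernel))
    (hT ▸ mem_centralizer_singleton_iff.2 (by decide +kernel)) h4 (by decide +kernel) (by decide +kernel)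
    (fun s hs => ?_) hp (μ := μ) (fun α hα => ?_) (fun s hs => ?_) mu h5 fun s hs => ?_
  · obtain ⟨i, j, rfl⟩ := cent6' (s := s) (Commute.pow_right hs 2)
    refine mem_four ?_
    revert i j
    decide +kernel
  · obtain ⟨γ, hγ⟩ := exists_ind φ hφ hk α
    by_cases h : γ ∈ NE
    · obtain ⟨σ, rfl⟩ := cn γ h
      obtain ⟨s, e | e⟩ := perm_cases (τ := swap 1 2) (by decide) σ
      · exact ⟨s, Or.inl fun g => by rw [← hγ, e]⟩
      · have h9 := key α s (MulAut.conjNormal (swap 1 2 : Perm (Fin 6))) 2 0 0 1 hα (fun g => by rw [← hγ, e]; rfl)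
          (Subtype.ext ((MulAut.conjNormal_apply _ _).trans (by decide +kernel)))
          (Subtype.ext ((MulAut.conjNormal_apply _ _).trans (by decide +kernel)))
        exact absurd (mul_eq_left.1 ((pow_two c).symm.trans (h9.symm.trans (pow_one c)))) h7
    · obtain ⟨σ, e0⟩ := cn _ (inv_mul_mem (α := γ⁻¹) (β := μ⁻¹) (fun e => h (inv_mem_iff.1 e))
        fun e => hN (inv_mem_iff.1 e))
      rw [inv_inv, mul_inv_eq_iff_eq_mul] at e0
      obtain ⟨s, e | e⟩ := perm_cases (τ := t6) (by decide +kernel) σ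
      · exact ⟨s, Or.inr fun g => by rw [← hγ, e0, e]; rfl⟩
      · have h9 := key α s (MulAut.conjNormal t6 * μ) 2 2 1 2 hα (fun g => by rw [← hγ, e0, e]; rfl)
          (by rw [MulAut.mul_apply, ma]; exact Subtype.ext ((MulAut.conjNormal_apply _ _).trans (by decide +kernel)))
          (by rw [MulAut.mul_apply, m3]; exact Subtype.ext ((MulAut.conjNormal_apply _ _).trans (by decide +kernel)))
        exact absurd (mul_eq_left.1 ((pow_succ c 3).symm.trans h9.symm)) h7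
  · rw [hT, mem_centralizer_singleton_iff] at hs ⊢
    have h9 := congrArg μ hs
    rwa [map_mul, map_mul, map_pow, mu, show u6⁻¹ ^ 2 = u6 ^ 2 by decide +kernel] at h9
  · have h9 := h5 s
    rw [hs, hs, eq_mul_inv_iff_mul_eq] at h9
    obtain ⟨i, j, rfl⟩ := cent6' h9
    rw [map_mul, map_pow, map_pow, mu, mk] at hs
    clear h9
    revert i j
    decide +kernel

end Cfsg.Agent.MK.A
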