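import Cfsg.Agent.MK.A.Loc
import Cfsg.Agent.MK.A.Six
import Cfsg.Agent.ODD.Cov.Lin
import Cfsg.Agent.S2116
import Cfsg.Agent.S0253
import Cfsg.Agent.S0254

/-!
# MK: the row of the alternating groups (helper42)

* `row_alt` : from the small step and the row of the linear groups (for `A₅ ≅ L₂(5)`, `A₆ ≅ L₂(9)`).
-/

set_option autoImplicit false
set_option maxHeartbeats 400000

namespace Cfsg.Agent.MK.A

open Cfsg Subgroup Cfsg.Agent.ODD

/-- **the alternating groups** -/
theorem row_alt (hs : StepSm) (hp : Row PslO) : Row fun S _ => IsAlternating S := by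
  intro X _ _ c Γ s
  obtain ⟨n, hn, ⟨e⟩⟩ := c.fam
  by_cases h5 : n = 5
  · subst h5
    have : Fact (Nat.Prime 5) := ⟨Nat.prime_five⟩
    obtain ⟨f⟩ := S0253.result (F := ZMod 5) (ZMod.card 5)
    exact hp X ⟨c.qs, c.odd, ZMod 5, inferInstance, inferInstance, 2, by rw [ZMod.card]; decide, le_rfl,
      fun _ => by rw [ZMod.card]; decide, ⟨e.trans f.symm⟩⟩ Γ s
  by_cases h6 : n = 6
  · subst h6
    have : Fact (Nat.Prime 3) := ⟨Nat.prime_three⟩
    have := Fintype.ofFinite (GaloisField 3 2)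
    have h9 : Fintype.card (GaloisField 3 2) = 9 := by
      rw [← Nat.card_eq_fintype_card, GaloisField.card 3 2 two_ne_zero]
      rfl
    obtain ⟨f⟩ := S0254.result h9
    exact hp X ⟨c.qs, c.odd, GaloisField 3 2, inferInstance, inferInstance, 2, by rw [h9]; decide, le_rfl,
      fun _ => by rw [h9]; decide, ⟨e.trans f.symm⟩⟩ Γ s
  by_cases h7 : n = 7
  · subst h7
    exact S.gd_of_three hs c s ⟨e⟩ (k := 1) (S2116.result 7 (Or.inr rfl)) dvd_rfl (smS_alt le_rfl) smC_seven
  · exact S.gd_of_mb hs c s ⟨e⟩ (k := 1) (Cv.mb_alt (by omega) h6 h7) (smS_alt (by omega))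

/-- the triple cover of `L₂(9)` -/
theorem gd_three_six (hs : StepSm) {X : Type} [Group X] [Finite X] {Γ : Subgroup (MulAut X)} (s : Sit X Γ)
    {F : Type} [Field F] [Fintype F] (hF : Fintype.card F = 9)
    (e : X ⧸ center X ≃* Matrix.ProjectiveSpecialLinearGroup (Fin 2) F) (hZ : Nat.card (center X) = 3) : Gd X Γ := by
  obtain ⟨f⟩ := S0254.result hF
  exact S.gd_of_card hs s (e.trans f) hZ smC_six

end Cfsg.Agent.MK.A
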