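import Cfsg.Agent.MK.A.Two
import Cfsg.Agent.ODD.Alt.Diag

/-!
# MK, alternating groups: the number of characters of odd degree of the symmetric groups (helper42)

The values at the `2`-element whose cycle lengths are the binary digits of `n` are `0, ± 1`.

* `Hk`, `FM_hk` : hooks and the Murnaghan-Nakayama rule;
* `ko_step : m < 2 ^ k → ko S_(2 ^ k + m) = 2 ^ k * ko S_m`, `ko_zero`, `ko_pow`.
-/

set_option autoImplicit false
set_option maxHeartbeats 400000

namespace Cfsg.Agent.MK.A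

open Cfsg Finset Equiv Cfsg.Agent.Characters.Core Cfsg.Agent.H614

variable {m : ℕ}

/-- the size of a tuple -/
def Sz (β : Fin m → ℕ) (n : ℕ) : Prop := ∑ i, β i = n + ∑ i : Fin m, (i : ℕ)

/-- a hook of length `r` -/
def Hk (β : Fin m → ℕ) (r : ℕ) (j : Fin m) : Prop := r ≤ β j ∧ β j - r ∉ Set.range β

section hooks

variable {β : Fin m → ℕ} {r n : ℕ} {j k : Fin m}

theorem Hk.inj (hβ : Function.Injective β) (h : Hk β r j) : Function.Injective (dn β j r) := fun a b hab => by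
  by_cases ha : a = j <;> by_cases hb : b = j
  · rw [ha, hb]
  · rw [ha, dn_self, dn_ne β r hb] at hab
    exact absurd ⟨b, hab.symm⟩ h.2
  · rw [hb, dn_self, dn_ne β r ha] at hab
    exact absurd ⟨a, hab⟩ h.2
  · rw [dn_ne β r ha, dn_ne β r hb] at hab
    exact hβ hab

theorem Hk.sz (hβ : Function.Injective β) (hs : Sz β n) (h : Hk β r j) : r ≤ n ∧ Sz (dn β j r) (n - r) := by
  have h1 := sum_dn β j h.1
  have h2 := sum_le_of_injective (h.inj hβ)
  unfold Sz at hs ⊢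
  omega

theorem Hk.dn (hβ : Function.Injective β) (h : Hk β r j) (h' : Hk β r k) (hjk : k ≠ j) : Hk (dn β j r) r k := by
  refine ⟨by rw [dn_ne β r hjk]; exact h'.1, ?_⟩
  rintro ⟨l, hl⟩
  rw [dn_ne β r hjk] at hl
  by_cases e : l = j
  · rw [e, dn_self] at hl
    have h1 := h.1
    have h2 := h'.1
    exact hjk (hβ (by omega))
  · rw [dn_ne β r e] at hl
    exact h'.2 ⟨l, hl⟩

theorem Hk.uniq (hβ : Function.Injective β) (hs : Sz β n) (hn : n < 2 * r) (h : Hk β r j) (h' : Hk β r k) : k = j := by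
  by_contra e
  obtain ⟨h1, h2⟩ := h.sz hβ hs
  have h3 := ((h.dn hβ h' e).sz (h.inj hβ) h2).1
  omega

open Classical in
theorem FM_hk (hr : 0 < r) (s : Multiset ℕ) (β : Fin m → ℕ) :
    FM (r ::ₘ s) β = ∑ j ∈ univ.filter (Hk β r), FM s (dn β j r) := by
  rw [FM_cons, sum_filter]
  refine sum_congr rfl fun j _ => ?_
  by_cases h1 : r ≤ β j
  · rw [if_pos h1]
    split_ifs with h2
    · rfl
    · obtain ⟨l, hl⟩ : β j - r ∈ Set.range β := by
        by_contra h3
        exact h2 ⟨h1, h3⟩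
      have hlj : l ≠ j := fun e => by rw [e] at hl; omega
      exact (FM_alt _).eq_zero two_torsion_int hlj (by rw [dn_ne β r hlj, dn_self, hl])
  · rw [if_neg h1, if_neg fun h => h1 h.1]

theorem FM_none (hr : 0 < r) (s : Multiset ℕ) (h : ∀ j, ¬ Hk β r j) : FM (r ::ₘ s) β = 0 := by
  classical
  rw [FM_hk hr]
  exact sum_eq_zero fun j hj => absurd (mem_filter.1 hj).2 (h j)

theorem FM_one (hr : 0 < r) (s : Multiset ℕ) (hβ : Function.Injective β) (hs : Sz β n) (hn : n < 2 * r)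
    (h : Hk β r j) : FM (r ::ₘ s) β = FM s (dn β j r) := by
  classical
  rw [FM_hk hr, sum_eq_single_of_mem j (mem_filter.2 ⟨mem_univ _, h⟩)]
  exact fun k hk e => absurd (h.uniq hβ hs hn (mem_filter.1 hk).2) e

theorem vac_cases (hβ : Function.Injective β) (hs : Sz β 0) : vac β = 1 ∨ vac β = -1 := by
  have h1 : StrictMono (β ∘ Tuple.sort β) :=
    (Tuple.monotone_sort β).strictMono_of_injective (hβ.comp (Tuple.sort β).injective)
  have h2 : ∑ i, (β ∘ Tuple.sort β) i = 0 + ∑ i : Fin m, (i : ℕ) := (Equiv.sum_comp (Tuple.sort β) β).trans hs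
  have h3 : β ∘ Tuple.sort β = fun i : Fin m => (i : ℕ) := funext fun i =>
    le_antisymm (H615.AltConj.le_of_strictMono h1 h2 i) (strictMono_le h1 i)
  have h4 := vac_alt (Tuple.sort β) β
  rw [h3, vac_eq_pair (fun i : Fin m => (i : ℕ)), pair_self_of_strictMono Fin.val_strictMono, smul_eq_mul] at h4
  exact Int.eq_one_or_neg_one_of_mul_eq_one (by rw [mul_comm]; exact h4.symm)

end hooks

/-- a cycle type of a `2`-element at which all values are `0, ± 1` -/
structure Good (n : ℕ) (s : Multiset ℕ) : Prop where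
  sum : s.sum = n
  pw : ∀ r ∈ s, ∃ i, r = 2 ^ i
  val : ∀ (m : ℕ) (β : Fin m → ℕ), Function.Injective β → Sz β n → FM s β = 0 ∨ FM s β = 1 ∨ FM s β = -1

theorem good_zero : Good 0 0 := ⟨rfl, fun _ h => absurd h (Multiset.notMem_zero _), fun _ _ h1 h2 => Or.inr (vac_cases h1 h2)⟩

theorem Good.step {n k : ℕ} {s : Multiset ℕ} (h : Good n s) (hn : n < 2 ^ k) : Good (2 ^ k + n) (2 ^ k ::ₘ s) := by
  refine ⟨by rw [Multiset.sum_cons, h.sum], fun r hr => ?_, fun m β h1 h2 => ?_⟩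
  · rcases Multiset.mem_cons.1 hr with rfl | hr
    · exact ⟨k, rfl⟩
    · exact h.pw r hr
  · by_cases e : ∃ j, Hk β (2 ^ k) j
    · obtain ⟨j, hj⟩ := e
      have h3 := (hj.sz h1 h2).2
      rw [Nat.add_sub_cancel_left] at h3
      rw [FM_one (by positivity) s h1 h2 (by omega) hj]
      exact h.val m _ (hj.inj h1) h3
    · exact Or.inl (FM_none (by positivity) s fun j hj => e ⟨j, hj⟩)

theorem exists_split {n : ℕ} (hn : n ≠ 0) : ∃ k l, l < 2 ^ k ∧ n = 2 ^ k + l := by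
  have k1 : 2 ^ Nat.log 2 n ≤ n := Nat.pow_log_le_self 2 hn
  have k2 : n < 2 ^ (Nat.log 2 n + 1) := Nat.lt_pow_succ_log_self one_lt_two n
  rw [pow_succ] at k2
  exact ⟨Nat.log 2 n, n - 2 ^ Nat.log 2 n, by omega, by omega⟩

theorem exists_good (n : ℕ) : ∃ s, Good n s := by
  induction n using Nat.strong_induction_on with
  | _ n ih =>
  by_cases hn : n = 0
  · exact ⟨0, hn ▸ good_zero⟩
  obtain ⟨k, l, h1, rfl⟩ := exists_split hn
  obtain ⟨s, hs⟩ := ih l (by have := Nat.two_pow_pos k; omega)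
  exact ⟨_, hs.step h1⟩

section perm

variable {α : Type} [Fintype α] [DecidableEq α]

theorem exists_ty {s : Multiset ℕ} (h1 : s.sum = Fintype.card α) (h2 : ∀ r ∈ s, 0 < r) : ∃ g : Perm α, ty g = s := by
  have h3 := card_partition_eq (α := α) ⟨s, fun hi => h2 _ hi, h1⟩
  obtain ⟨g, hg⟩ := card_pos.1 (Nat.pos_of_ne_zero fun h0 => by
    rw [h0, zero_mul] at h3
    exact (Nat.factorial_ne_zero _) h3.symm)
  exact ⟨g, congrArg Nat.Partition.parts (mem_filter.1 hg).2⟩

theorem prod_pw {s : Multiset ℕ} (h : ∀ r ∈ s, ∃ i, r = 2 ^ i) : ∃ j, s.prod = 2 ^ j :=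
  Multiset.prod_induction (fun x => ∃ j, x = 2 ^ j) s (by
    rintro _ _ ⟨a, rfl⟩ ⟨b, rfl⟩
    exact ⟨a + b, (pow_add 2 a b).symm⟩) ⟨0, rfl⟩ h

theorem pow_of_ty {g : Perm α} (h : ∀ r ∈ ty g, ∃ i, r = 2 ^ i) : ∃ j, g ^ 2 ^ j = 1 := by
  obtain ⟨j, hj⟩ := prod_pw h
  refine ⟨j, orderOf_dvd_iff_pow_eq_one.1 ?_⟩
  rw [← Perm.lcm_cycleType, Multiset.lcm_dvd, ← hj]
  intro c hc
  exact Multiset.dvd_prod (by rw [ty_eq]; exact Multiset.mem_add.2 (Or.inl hc))

/-- a cycle of even length gives an odd permutation in the centraliser -/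
theorem exists_odd_comm {g : Perm α} {r : ℕ} (h : r ∈ ty g) (hr : Even r) :
    ∃ s, s ∉ alternatingGroup α ∧ s * g = g * s := by
  rw [ty_eq, Multiset.mem_add] at h
  rcases h with h | h
  · obtain ⟨c, τ, rfl, h1, h2, h3⟩ := Perm.mem_cycleType_iff.1 h
    refine ⟨c, ?_, by rw [mul_assoc, h1.commute.eq]⟩
    rw [Perm.mem_alternatingGroup, h2.sign, h3, hr.neg_one_pow]
    decide
  · rw [Multiset.eq_of_mem_replicate h] at hr
    exact absurd hr (by decide)

theorem sgn_def (g : Perm α) : H615.AltConj.sgn g = ((Perm.sign g : ℤˣ) : ℤ) := rfl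

theorem mem_alt_of_ty {g : Perm α} (h : Even (Multiset.card (ty g) + Fintype.card α)) : g ∈ alternatingGroup α := by
  have h1 := H615.AltConj.neg_one_pow_card_ty g
  have h2 : (-1 : ℂ) ^ Multiset.card (ty g) * (-1) ^ Fintype.card α = 1 := by rw [← pow_add, h.neg_one_pow]
  rw [h1, mul_right_comm, ← pow_add, (Even.add_self _).neg_one_pow, one_mul, sgn_def] at h2
  rw [Perm.mem_alternatingGroup]
  rcases Int.units_eq_one_or (Perm.sign g) with h3 | h3
  · exact h3
  · rw [h3] at h2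
    norm_num at h2

theorem card_parts_le {n : ℕ} (ν : n.Partition) : Multiset.card ν.parts ≤ n := by
  have h1 := Multiset.card_nsmul_le_sum (s := ν.parts) (a := 1) fun x hx => ν.parts_pos hx
  rwa [ν.parts_sum, smul_eq_mul, mul_one] at h1

/-- the irreducible characters with a property, counted by partitions -/
theorem card_irr_eq (P : (Perm α → ℂ) → Prop) :
    Nat.card {χ : Perm α → ℂ // IsIrrCharacter (Perm α) χ ∧ P χ} =
      Nat.card {β : Fin (Fintype.card α) → ℕ // (StrictMono β ∧ Sz β (Fintype.card α)) ∧ P (ch α β)} := by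
  refine (Nat.card_eq_of_bijective (fun β => ⟨ch α β.1, isIrr_ch β.2.1.1 β.2.1.2, β.2.2⟩) ⟨fun β γ h => ?_, fun χ => ?_⟩).symm
  · exact Subtype.ext (ch_inj β.2.1.1 γ.2.1.1 β.2.1.2 (congrArg Subtype.val h))
  · obtain ⟨β, h1, h2, h3⟩ := irr_eq le_rfl χ.2.1
    exact ⟨⟨β, ⟨h1, h2⟩, h3 ▸ χ.2.2⟩, Subtype.ext h3.symm⟩

theorem Good.ko {s : Multiset ℕ} (h : Good (Fintype.card α) s) : ko (Perm α) = zz s := by
  classical
  have hpos : ∀ r ∈ s, 0 < r := fun r hr => by
    obtain ⟨i, rfl⟩ := h.pw r hr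
    positivity
  obtain ⟨g, hg⟩ := exists_ty h.sum hpos
  obtain ⟨j, hj⟩ := pow_of_ty (g := g) (hg ▸ h.pw)
  have h1 := column_ortho (m := Fintype.card α) le_rfl ⟨s, fun hi => hpos _ hi, h.sum⟩ ⟨s, fun hi => hpos _ hi, h.sum⟩
  rw [if_pos rfl] at h1
  have hm : ∀ ν : (Fintype.card α).Partition, StrictMono (betaOf (Fintype.card α) ν.parts) ∧
      Sz (betaOf (Fintype.card α) ν.parts) (Fintype.card α) := fun ν =>
    ⟨betaOf_strictMono (card_parts_le ν), by rw [Sz, sum_betaOf (card_parts_le ν), ν.parts_sum]⟩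
  have h2 : ∀ ν : (Fintype.card α).Partition, (FM s (betaOf (Fintype.card α) ν.parts) : ℚ) *
      FM s (betaOf (Fintype.card α) ν.parts) =
      if Odd (charDegree (ch α (betaOf (Fintype.card α) ν.parts))) then 1 else 0 := fun ν => by
    rw [if_congr (par (isIrr_isCharacter (isIrr_ch (hm ν).1 (hm ν).2)) hj (ch_apply _ g)) rfl rfl, hg]
    rcases h.val _ _ (hm ν).1.injective (hm ν).2 with e | e | e <;> rw [e] <;> norm_num
  rw [sum_congr rfl fun ν _ => h2 ν, sum_boole, ← Fintype.card_subtype, ← Nat.card_eq_fintype_card] at h1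
  have h3 : Nat.card {ν : (Fintype.card α).Partition // Odd (charDegree (ch α (betaOf (Fintype.card α) ν.parts)))} =
      zz s := Nat.cast_injective (R := ℚ) h1
  rw [← h3, show A.ko (Perm α) = Nat.card {χ : Perm α → ℂ // IsIrrCharacter (Perm α) χ ∧ Odd (charDegree χ)} from rfl,
    card_irr_eq]
  refine (Nat.card_eq_of_bijective (fun ν => ⟨betaOf _ ν.1.parts, hm ν.1, ν.2⟩) ⟨fun ν μ e => ?_, fun β => ?_⟩).symm
  · exact Subtype.ext (Nat.Partition.ext (betaOf_inj (card_parts_le _) (card_parts_le _)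
      (fun h0 => absurd (ν.1.parts_pos h0) (lt_irrefl 0)) (fun h0 => absurd (μ.1.parts_pos h0) (lt_irrefl 0))
      (congrArg Subtype.val e)))
  · obtain ⟨ν, hν⟩ := exists_betaOf le_rfl β.2.1.1 β.2.1.2
    exact ⟨⟨ν, hν ▸ β.2.2⟩, Subtype.ext hν.symm⟩

/-- **the recursion** -/
theorem ko_step {γ : Type} [Fintype γ] [DecidableEq γ] {k : ℕ} (h : Fintype.card γ < 2 ^ k)
    (hα : Fintype.card α = 2 ^ k + Fintype.card γ) : ko (Perm α) = 2 ^ k * ko (Perm γ) := by
  obtain ⟨s, hs⟩ := exists_good (Fintype.card γ)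
  have h1 : s.count (2 ^ k) = 0 := Multiset.count_eq_zero.2 fun hm => by
    have := Multiset.single_le_sum (fun x _ => Nat.zero_le x) _ hm
    rw [hs.sum] at this
    omega
  rw [hs.ko, Good.ko (hα ▸ hs.step h), zz_cons, h1, zero_add, mul_one]

theorem ko_zero (h : Fintype.card α = 0) : ko (Perm α) = 1 := by
  rw [Good.ko (h ▸ good_zero)]
  rfl

theorem ko_pow {k : ℕ} (h : Fintype.card α = 2 ^ k) : ko (Perm α) = 2 ^ k := by
  rw [ko_step (γ := Fin 0) (k := k) (by rw [Fintype.card_fin]; positivity) (by rw [h]; rfl),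
    ko_zero (Fintype.card_fin 0), mul_one]

end perm

end Cfsg.Agent.MK.A
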